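import Mathlib.CategoryTheory.Abelian.RightDerived
import Mathlib.CategoryTheory.Abelian.Injective.Resolution
import Mathlib.Algebra.Homology.Augment
import Mathlib.CategoryTheory.Abelian.Refinements
import Mathlib.Algebra.Homology.ShortComplex.Abelian

/-!
Dimension shifting for right derived functors of left exact functors; the kernel of the comparison
`H^i(Φ K) → Φ H^i(K)`.
-/

set_option autoImplicit false
set_option linter.style.haveILetI false
set_option linter.unusedSectionVars false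
set_option backward.isDefEq.respectTransparency false
set_option backward.isDefEq.respectTransparency.types false
set_option maxHeartbeats 1000000

universe v v' u u'

open CategoryTheory Category Limits HomologicalComplex

namespace Groth.Agent.CmpSite

variable {A : Type u} [Category.{v} A] [Abelian A] {B : Type u'} [Category.{v'} B] [Abelian B]
  (Φ : A ⥤ B) [Φ.Additive] [PreservesFiniteLimits Φ]

section Comparison

variable (K : CochainComplex A ℕ)

/-- the mapped complex -/
noncomputable abbrev mapCx : CochainComplex B ℕ := (Φ.mapHomologicalComplex _).obj K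

lemma mapCycles_condition (i : ℕ) : Φ.map (K.iCycles i) ≫ (mapCx Φ K).d i (i + 1) = 0 := by
  change Φ.map (K.iCycles i) ≫ Φ.map (K.d i (i + 1)) = 0
  rw [← Φ.map_comp, K.iCycles_d, Φ.map_zero]

/-- cycles of the mapped complex -/
noncomputable def mapCycles (i : ℕ) : (mapCx Φ K).cycles i ≅ Φ.obj (K.cycles i) :=
  IsLimit.conePointUniqueUpToIso ((mapCx Φ K).cyclesIsKernel i (i + 1) (by simp))
    (KernelFork.mapIsLimit _ (K.cyclesIsKernel i (i + 1) (by simp)) Φ)

@[reassoc]
lemma mapCycles_hom_i (i : ℕ) : (mapCycles Φ K i).hom ≫ Φ.map (K.iCycles i) = (mapCx Φ K).iCycles i :=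
  IsLimit.conePointUniqueUpToIso_hom_comp ((mapCx Φ K).cyclesIsKernel i (i + 1) (by simp))
    (KernelFork.mapIsLimit _ (K.cyclesIsKernel i (i + 1) (by simp)) Φ) WalkingParallelPair.zero

@[reassoc]
lemma toCycles_mapCycles (i j : ℕ) :
    (mapCx Φ K).toCycles i j ≫ (mapCycles Φ K j).hom = Φ.map (K.toCycles i j) := by
  rw [← cancel_mono (Φ.map (K.iCycles j)), assoc, mapCycles_hom_i, toCycles_i, ← Φ.map_comp,
    K.toCycles_i]
  rfl

/-- the comparison map -/
noncomputable def cmp (i : ℕ) : (mapCx Φ K).homology i ⟶ Φ.obj (K.homology i) :=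
  ((mapCx Φ K).homologyIsCokernel ((ComplexShape.up ℕ).prev i) i rfl).desc
    (CokernelCofork.ofπ ((mapCycles Φ K i).hom ≫ Φ.map (K.homologyπ i)) (by
      rw [← assoc, toCycles_mapCycles, ← Φ.map_comp, K.toCycles_comp_homologyπ, Φ.map_zero]))

@[reassoc]
lemma π_cmp (i : ℕ) : (mapCx Φ K).homologyπ i ≫ cmp Φ K i = (mapCycles Φ K i).hom ≫ Φ.map (K.homologyπ i) :=
  ((mapCx Φ K).homologyIsCokernel ((ComplexShape.up ℕ).prev i) i rfl).fac _ WalkingParallelPair.one

/-- boundaries -/
noncomputable abbrev bd (j : ℕ) : A := kernel (K.homologyπ (j + 1))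

/-- onto the boundaries -/
noncomputable abbrev toBd (j : ℕ) : K.X j ⟶ bd K j :=
  kernel.lift _ (K.toCycles j (j + 1)) (K.toCycles_comp_homologyπ j (j + 1))

/-- `0 → Z^j → K^j → B^{j+1} → 0` -/
noncomputable abbrev cyclesSeq (j : ℕ) : ShortComplex A :=
  ShortComplex.mk (K.iCycles j) (toBd K j) (by
    rw [← cancel_mono (kernel.ι (K.homologyπ (j + 1))), assoc, kernel.lift_ι,
      ← cancel_mono (K.iCycles (j + 1)), assoc, K.toCycles_i, K.iCycles_d]
    simp)

/-- `0 → B^{j+1} → Z^{j+1} → H^{j+1} → 0` -/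
noncomputable abbrev homologySeq (j : ℕ) : ShortComplex A :=
  ShortComplex.mk (kernel.ι (K.homologyπ (j + 1))) (K.homologyπ (j + 1)) (kernel.condition _)

lemma homologySeq_shortExact (j : ℕ) : (homologySeq K j).ShortExact :=
  { exact := ShortComplex.exact_of_f_is_kernel _ (kernelIsKernel _) }

instance epi_toBd (j : ℕ) : Epi (toBd K j) := by
  have hx : (ShortComplex.mk (K.toCycles j (j + 1)) (K.homologyπ (j + 1))
      (K.toCycles_comp_homologyπ j (j + 1))).Exact :=
    ShortComplex.exact_of_g_is_cokernel _ (K.homologyIsCokernel j (j + 1) (by simp))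
  exact hx.epi_kernelLift

lemma cyclesSeq_shortExact (j : ℕ) : (cyclesSeq K j).ShortExact := by
  refine { exact := ?_ }
  have hx : (ShortComplex.mk (K.iCycles j) (K.d j (j + 1)) (K.iCycles_d j (j + 1))).Exact :=
    ShortComplex.exact_of_f_is_kernel _ (K.cyclesIsKernel j (j + 1) (by simp))
  let m : cyclesSeq K j ⟶ ShortComplex.mk (K.iCycles j) (K.d j (j + 1)) (K.iCycles_d j (j + 1)) :=
    { τ₁ := 𝟙 _, τ₂ := 𝟙 _, τ₃ := kernel.ι _ ≫ K.iCycles (j + 1) }
  exact (ShortComplex.exact_iff_of_epi_of_isIso_of_mono m).2 hx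

/-- into the kernel of the comparison -/
noncomputable def αKer (j : ℕ) : Φ.obj (bd K j) ⟶ kernel (cmp Φ K (j + 1)) :=
  kernel.lift _ (Φ.map (kernel.ι (K.homologyπ (j + 1))) ≫ (mapCycles Φ K (j + 1)).inv ≫
    (mapCx Φ K).homologyπ (j + 1)) (by
      rw [assoc, assoc, π_cmp, Iso.inv_hom_id_assoc, ← Φ.map_comp, kernel.condition, Φ.map_zero])

lemma toBd_αKer (j : ℕ) : Φ.map (toBd K j) ≫ αKer Φ K j = 0 := by
  rw [← cancel_mono (kernel.ι (cmp Φ K (j + 1))), assoc, αKer, kernel.lift_ι, zero_comp, ← assoc,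
    ← Φ.map_comp, kernel.lift_ι, ← toCycles_mapCycles, assoc, Iso.hom_inv_id_assoc,
    (mapCx Φ K).toCycles_comp_homologyπ]

/-- the kernel of the comparison -/
theorem kernel_cmp_iso (j : ℕ) : Nonempty (kernel (cmp Φ K (j + 1)) ≅ cokernel (Φ.map (toBd K j))) := by
  let S := ShortComplex.mk (Φ.map (toBd K j)) (αKer Φ K j) (toBd_αKer Φ K j)
  have hepi : Epi (αKer Φ K j) := by
    rw [epi_iff_surjective_up_to_refinements]
    intro T a
    obtain ⟨T', p, hp, z, hz⟩ := surjective_up_to_refinements_of_epi ((mapCx Φ K).homologyπ (j + 1))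
      (a ≫ kernel.ι _)
    have h0 : (z ≫ (mapCycles Φ K (j + 1)).hom) ≫ Φ.map (K.homologyπ (j + 1)) = 0 := by
      rw [assoc, ← π_cmp, ← assoc, ← hz, assoc, assoc, kernel.condition, comp_zero, comp_zero]
    obtain ⟨b, hb⟩ := KernelFork.IsLimit.lift'
      (KernelFork.mapIsLimit _ (kernelIsKernel (K.homologyπ (j + 1))) Φ) _ h0
    refine ⟨T', p, hp, b, ?_⟩
    change b ≫ Φ.map (kernel.ι (K.homologyπ (j + 1))) = _ at hb
    rw [← cancel_mono (kernel.ι (cmp Φ K (j + 1))), assoc, assoc, αKer, kernel.lift_ι, ← assoc b, hb, hz]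
    simp
  have hex : S.Exact := by
    rw [ShortComplex.exact_iff_exact_up_to_refinements]
    intro T b hb
    dsimp [S] at b hb ⊢
    have hb' : (b ≫ Φ.map (kernel.ι _) ≫ (mapCycles Φ K (j + 1)).inv) ≫ (mapCx Φ K).homologyπ (j + 1) = 0 := by
      have := congrArg (· ≫ kernel.ι (cmp Φ K (j + 1))) hb
      simpa [αKer] using this
    obtain ⟨T', p, hp, x, hx⟩ := (ShortComplex.exact_of_g_is_cokernel
      (ShortComplex.mk ((mapCx Φ K).toCycles j (j + 1)) _ ((mapCx Φ K).toCycles_comp_homologyπ j (j + 1)))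
      ((mapCx Φ K).homologyIsCokernel j (j + 1) (by simp))).exact_up_to_refinements _ hb'
    refine ⟨T', p, hp, x, ?_⟩
    dsimp at x hx
    haveI : Mono (Φ.map (kernel.ι (K.homologyπ (j + 1)))) := inferInstance
    rw [← cancel_mono (Φ.map (kernel.ι (K.homologyπ (j + 1)))), assoc, assoc, ← Φ.map_comp, kernel.lift_ι,
      ← toCycles_mapCycles, ← reassoc_of% hx, Iso.inv_hom_id, comp_id]
  haveI := hepi
  exact ⟨IsColimit.coconePointUniqueUpToIso hex.gIsCokernel (colimit.isColimit _)⟩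

/-- the comparison is injective when the boundaries are hit -/
theorem mono_cmp (j : ℕ) [Epi (Φ.map (toBd K j))] : Mono (cmp Φ K (j + 1)) := by
  obtain ⟨e⟩ := kernel_cmp_iso Φ K j
  exact Preadditive.mono_of_isZero_kernel _ ((isZero_cokernel_of_epi _).of_iso e)

/-- degree zero -/
instance isIso_cmp_zero : IsIso (cmp Φ K 0) := by
  haveI := (mapCx Φ K).isIso_homologyπ _ 0 rfl ((mapCx Φ K).shape _ _ (by simp))
  haveI := K.isIso_homologyπ _ 0 rfl (K.shape _ _ (by simp))
  haveI : IsIso ((mapCx Φ K).homologyπ 0 ≫ cmp Φ K 0) := by rw [π_cmp]; infer_instance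
  exact IsIso.of_isIso_comp_left ((mapCx Φ K).homologyπ 0) (cmp Φ K 0)

end Comparison

section Shift

variable [EnoughInjectives A]

/-- an injective resolution of the kernel from one of the quotient -/
theorem exists_augmented {S : ShortComplex A} (hS : S.ShortExact) [Injective S.X₂]
    (R : InjectiveResolution S.X₃) :
    ∃ R' : InjectiveResolution S.X₁, R'.cocomplex = R.cocomplex.augment (S.g ≫ R.ι.f 0)
      ((assoc _ _ _).trans ((congrArg (S.g ≫ ·) R.ι_f_zero_comp_complex_d).trans comp_zero)) := by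
  let w := ((assoc _ _ _).trans ((congrArg (S.g ≫ ·) R.ι_f_zero_comp_complex_d).trans comp_zero) :
    (S.g ≫ R.ι.f 0) ≫ R.cocomplex.d 0 1 = 0)
  let K := R.cocomplex.augment (S.g ≫ R.ι.f 0) w
  have hw : S.f ≫ K.d 0 1 = 0 := by
    change S.f ≫ S.g ≫ R.ι.f 0 = 0
    rw [S.zero_assoc, zero_comp]
  have := hS.mono_f
  have := hS.epi_g
  refine ⟨{ cocomplex := K
            injective := fun n => ?_
            ι := (CochainComplex.fromSingle₀Equiv _ _).symm ⟨S.f, hw⟩
            quasiIso := ⟨fun n => ?_⟩ }, rfl⟩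
  · cases n
    · exact (inferInstance : Injective S.X₂)
    · exact R.injective _
  · cases n with
    | zero =>
      rw [CochainComplex.quasiIsoAt₀_iff, ShortComplex.quasiIso_iff_of_zeros]
      · refine (ShortComplex.exact_and_mono_f_iff_of_iso (S₂ := ShortComplex.mk S.f (S.g ≫ R.ι.f 0)
          (by rw [S.zero_assoc, zero_comp])) ?_).2 ⟨?_, hS.mono_f⟩
        · exact ShortComplex.isoMk (Iso.refl _) (Iso.refl _) (Iso.refl _) (by simp) (by simp [K])
        · let m : S ⟶ ShortComplex.mk S.f (S.g ≫ R.ι.f 0) (by rw [S.zero_assoc, zero_comp]) :=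
            { τ₁ := 𝟙 _, τ₂ := 𝟙 _, τ₃ := R.ι.f 0 }
          exact (ShortComplex.exact_iff_of_epi_of_isIso_of_mono m).1 hS.exact
      all_goals rfl
    | succ n =>
      rw [quasiIsoAt_iff_exactAt]
      · rw [HomologicalComplex.exactAt_iff' _ n (n + 1) (n + 1 + 1) (by simp) (by simp)]
        cases n with
        | zero =>
          let S₀ := ShortComplex.mk (R.ι.f 0) (R.cocomplex.d 0 1) R.ι_f_zero_comp_complex_d
          let m : K.sc' 0 1 2 ⟶ S₀ :=
            { τ₁ := S.g, τ₂ := 𝟙 _, τ₃ := 𝟙 _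
              comm₁₂ := by simp [K, S₀]
              comm₂₃ := by simp [K, S₀] }
          haveI : Epi m.τ₁ := hS.epi_g
          exact (ShortComplex.exact_iff_of_epi_of_isIso_of_mono m).2
            (ShortComplex.exact_of_f_is_kernel S₀ R.isLimitKernelFork)
        | succ n => exact R.exact_succ n
      · exact CochainComplex.exactAt_succ_single_obj _ _

/-- dimension shifting -/
theorem rightDerived_shift {S : ShortComplex A} (hS : S.ShortExact) [Injective S.X₂] (p : ℕ) :
    Nonempty ((Φ.rightDerived (p + 2)).obj S.X₁ ≅ (Φ.rightDerived (p + 1)).obj S.X₃) := by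
  let R := injectiveResolution S.X₃
  obtain ⟨R', hR'⟩ := exists_augmented hS R
  refine ⟨R'.isoRightDerivedObj Φ (p + 2) ≪≫ ?_ ≪≫ (R.isoRightDerivedObj Φ (p + 1)).symm⟩
  refine (HomologicalComplex.homologyFunctor _ _ _).mapIso ((Φ.mapHomologicalComplex _).mapIso (eqToIso hR')) ≪≫ ?_
  exact (HomologicalComplex.homologyIsoSc' _ (p + 1) (p + 2) (p + 3) (by simp) (by simp)) ≪≫
    ShortComplex.homologyMapIso (Iso.refl _) ≪≫
    (HomologicalComplex.homologyIsoSc' (mapCx Φ R.cocomplex) p (p + 1) (p + 2) (by simp) (by simp)).symm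

/-- the first derived functor -/
theorem rightDerived_one {S : ShortComplex A} (hS : S.ShortExact) [Injective S.X₂] :
    Nonempty ((Φ.rightDerived 1).obj S.X₁ ≅ cokernel (Φ.map S.g)) := by
  let R := injectiveResolution S.X₃
  obtain ⟨R', hR'⟩ := exists_augmented hS R
  refine ⟨R'.isoRightDerivedObj Φ 1 ≪≫
    (HomologicalComplex.homologyFunctor _ _ _).mapIso ((Φ.mapHomologicalComplex _).mapIso (eqToIso hR')) ≪≫ ?_⟩
  let K := mapCx Φ (R.cocomplex.augment (S.g ≫ R.ι.f 0)
    ((assoc _ _ _).trans ((congrArg (S.g ≫ ·) R.ι_f_zero_comp_complex_d).trans comp_zero)))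
  have hl : IsLimit (KernelFork.ofι (f := K.d 1 2) (Φ.map (R.ι.f 0))
      (by change Φ.map _ ≫ Φ.map (R.cocomplex.d 0 1) = 0; rw [← Φ.map_comp, R.ι_f_zero_comp_complex_d, Φ.map_zero])) :=
    KernelFork.mapIsLimit _ R.isLimitKernelFork Φ
  let e : K.cycles 1 ≅ Φ.obj S.X₃ :=
    IsLimit.conePointUniqueUpToIso (K.cyclesIsKernel 1 2 (by simp)) hl
  have he : e.hom ≫ Φ.map (R.ι.f 0) = K.iCycles 1 :=
    IsLimit.conePointUniqueUpToIso_hom_comp (K.cyclesIsKernel 1 2 (by simp)) hl WalkingParallelPair.zero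
  have hsq : K.toCycles 0 1 ≫ e.hom = Φ.map S.g := by
    haveI : Mono (Φ.map (R.ι.f 0)) := inferInstance
    rw [← cancel_mono (Φ.map (R.ι.f 0)), assoc, he, K.toCycles_i, ← Φ.map_comp]
    rfl
  exact IsColimit.coconePointUniqueUpToIso (K.homologyIsCokernel 0 1 (by simp)) (colimit.isColimit (parallelPair (K.toCycles 0 1) 0)) ≪≫
    cokernel.mapIso _ _ (Iso.refl _) e (by simpa using hsq)

variable (K : CochainComplex A ℕ) (hK : ∀ i, Injective (K.X i)) (n : ℕ) (hex : ∀ i, 1 ≤ i → i ≤ n → K.ExactAt i)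

include hK hex in
/-- cycles of an injective complex exact in the degrees `1, …, n` -/
theorem rightDerived_cycles (j : ℕ) (hj : j ≤ n) (p : ℕ) :
    Nonempty ((Φ.rightDerived (p + 1)).obj (K.cycles j) ≅ (Φ.rightDerived (p + 1 + j)).obj (K.cycles 0)) := by
  induction j generalizing p with
  | zero => exact ⟨Iso.refl _⟩
  | succ j ih =>
    haveI := hK j
    have hz : IsZero (K.homology (j + 1)) := (exactAt_iff_isZero_homology _ _).1 (hex (j + 1) (by omega) hj)
    haveI : IsIso (kernel.ι (K.homologyπ (j + 1))) :=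
      haveI : Epi (kernel.ι (K.homologyπ (j + 1))) :=
        (homologySeq_shortExact K j).exact.epi_f (hz.eq_of_tgt _ _)
      isIso_of_mono_of_epi _
    obtain ⟨e₁⟩ := rightDerived_shift Φ (cyclesSeq_shortExact K j) p
    obtain ⟨e₂⟩ := ih (by omega) (p + 1)
    exact ⟨(Φ.rightDerived (p + 1)).mapIso (asIso (kernel.ι (K.homologyπ (j + 1)))).symm ≪≫ e₁.symm ≪≫ e₂ ≪≫
      eqToIso (by rw [show p + 1 + 1 + j = p + 1 + (j + 1) by omega])⟩

include hK hex in
/-- the kernel of the comparison, through degree `n + 1` -/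
theorem kernel_cmp_rightDerived (j : ℕ) (hj : j ≤ n) :
    Nonempty (kernel (cmp Φ K (j + 1)) ≅ (Φ.rightDerived (j + 1)).obj (K.cycles 0)) := by
  haveI := hK j
  obtain ⟨e₁⟩ := kernel_cmp_iso Φ K j
  obtain ⟨e₂⟩ := rightDerived_one Φ (cyclesSeq_shortExact K j)
  obtain ⟨e₃⟩ := rightDerived_cycles Φ K hK n hex j hj 0
  exact ⟨e₁ ≪≫ e₂.symm ≪≫ e₃ ≪≫ eqToIso (by rw [show 0 + 1 + j = j + 1 by omega])⟩

include hK hex in
/-- an injective complex exact in the degrees `1, …, n` computes the derived functors up to `n` -/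
theorem homology_rightDerived (i : ℕ) (hi : i ≤ n) :
    Nonempty ((mapCx Φ K).homology i ≅ (Φ.rightDerived i).obj (K.cycles 0)) := by
  cases i with
  | zero =>
    haveI := (mapCx Φ K).isIso_homologyπ _ 0 rfl ((mapCx Φ K).shape _ _ (by simp))
    exact ⟨(asIso ((mapCx Φ K).homologyπ 0)).symm ≪≫ mapCycles Φ K 0 ≪≫
      (Φ.rightDerivedZeroIsoSelf.app _).symm⟩
  | succ j =>
    obtain ⟨e⟩ := kernel_cmp_rightDerived Φ K hK n hex j (by omega)
    have hz : cmp Φ K (j + 1) = 0 :=
      (Φ.map_isZero ((exactAt_iff_isZero_homology _ _).1 (hex (j + 1) (by omega) hi))).eq_of_tgt _ _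
    exact ⟨(kernelZeroIsoSource).symm ≪≫ (kernelIsoOfEq hz).symm ≪≫ e⟩

end Shift

end Groth.Agent.CmpSite
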