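import Groth.Agent.CmpSite.Over
import Groth.Prelude.Def_WeakSerre
import Mathlib.Algebra.Homology.HomologySequence
import Mathlib.Algebra.Homology.HomologicalComplexAbelian

/-!
Comparison of cohomology in two topologies: sheaves in the good subcategories have no higher
comparison images.
-/

set_option autoImplicit false
set_option linter.style.haveILetI false
set_option linter.unusedSectionVars false
set_option backward.isDefEq.respectTransparency false
set_option backward.isDefEq.respectTransparency.types false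
set_option maxHeartbeats 2000000

universe v v' u u'

open CategoryTheory Category Limits Opposite HomologicalComplex

namespace Groth.Agent.CmpSite

section Generic

variable {A : Type u} [Category.{v} A] [Abelian A] {B : Type u'} [Category.{v'} B] [Abelian B]

/-- injective terms, exact in positive degrees -/
structure IsRes (K : CochainComplex A ℕ) : Prop where
  inj : ∀ i, Injective (K.X i)
  exact : ∀ i, 1 ≤ i → K.ExactAt i

lemma IsRes.isZero {K : CochainComplex A ℕ} (hK : IsRes K) (i : ℕ) (hi : 1 ≤ i) : IsZero (K.homology i) :=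
  (exactAt_iff_isZero_homology _ _).1 (hK.exact i hi)

lemma isRes_of_resolution [EnoughInjectives A] {X : A} (R : InjectiveResolution X) : IsRes R.cocomplex :=
  ⟨R.injective, fun i hi => by obtain ⟨j, rfl⟩ : ∃ j, i = j + 1 := ⟨i - 1, by omega⟩; exact R.cocomplex_exactAt_succ j⟩

/-- the zeroth cycles of a resolution -/
noncomputable def cyclesResIso {X : A} (R : InjectiveResolution X) : R.cocomplex.cycles 0 ≅ X :=
  IsLimit.conePointUniqueUpToIso (R.cocomplex.cyclesIsKernel 0 1 (by simp)) R.isLimitKernelFork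

lemma isRes_map (Φ : A ⥤ B) [Φ.Additive] [PreservesFiniteLimits Φ] [PreservesFiniteColimits Φ]
    (hinj : ∀ I : A, Injective I → Injective (Φ.obj I)) {K : CochainComplex A ℕ} (hK : IsRes K) :
    IsRes (mapCx Φ K) :=
  ⟨fun i => hinj _ (hK.inj i), fun i hi =>
    (exactAt_iff_isZero_homology _ _).2 ((Φ.map_isZero (hK.isZero i hi)).of_iso ((K.sc i).mapHomologyIso Φ))⟩

/-- the kernel in an exact sequence is the cokernel of the previous map -/
lemma exists_kernel_iso_cokernel {X₀ X₁ X₂ X₃ : A} (f : X₀ ⟶ X₁) (δ : X₁ ⟶ X₂) (g : X₂ ⟶ X₃)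
    (w₁ : f ≫ δ = 0) (w₂ : δ ≫ g = 0) (h₁ : (ShortComplex.mk f δ w₁).Exact)
    (h₂ : (ShortComplex.mk δ g w₂).Exact) : Nonempty (cokernel f ≅ kernel g) := by
  let δ' : X₁ ⟶ kernel g := kernel.lift g δ w₂
  haveI : Epi δ' := h₂.epi_kernelLift
  let S := ShortComplex.mk f δ' (by rw [← cancel_mono (kernel.ι g), assoc, kernel.lift_ι, w₁, zero_comp])
  have hex : S.Exact := by
    let m : S ⟶ ShortComplex.mk f δ w₁ := { τ₁ := 𝟙 _, τ₂ := 𝟙 _, τ₃ := kernel.ι g }
    exact (ShortComplex.exact_iff_of_epi_of_isIso_of_mono m).2 h₁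
  exact ⟨IsColimit.coconePointUniqueUpToIso (colimit.isColimit _) hex.gIsCokernel⟩

/-- additive functors keep sequences of complexes with injective kernels short exact -/
lemma shortExact_mapCx (Φ : A ⥤ B) [Φ.Additive] {S : ShortComplex (CochainComplex A ℕ)} (hS : S.ShortExact)
    (hinj : ∀ n, Injective (S.X₁.X n)) : (S.map (Φ.mapHomologicalComplex (ComplexShape.up ℕ))).ShortExact :=
  HomologicalComplex.shortExact_of_degreewise_shortExact _ fun n => by
    have hn := hS.map_of_exact (HomologicalComplex.eval A (ComplexShape.up ℕ) n)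
    haveI : Injective (S.map (HomologicalComplex.eval A (ComplexShape.up ℕ) n)).X₁ := hinj n
    exact (hn.splittingOfInjective.map Φ).shortExact

lemma injective_X₃ {S : ShortComplex (CochainComplex A ℕ)} (hS : S.ShortExact)
    (h₁ : ∀ n, Injective (S.X₁.X n)) (h₂ : ∀ n, Injective (S.X₂.X n)) (n : ℕ) : Injective (S.X₃.X n) := by
  have hn := hS.map_of_exact (HomologicalComplex.eval A (ComplexShape.up ℕ) n)
  haveI : Injective (S.map (HomologicalComplex.eval A (ComplexShape.up ℕ) n)).X₁ := h₁ n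
  haveI : Injective (S.map (HomologicalComplex.eval A (ComplexShape.up ℕ) n)).X₂ := h₂ n
  exact Retract.injective (X := S.X₃.X n) (Y := S.X₂.X n)
    { i := hn.splittingOfInjective.s, r := (S.g).f n, retract := hn.splittingOfInjective.s_g }

end Generic

variable {C : Type u} [SmallCategory C] {J J' : GrothendieckTopology C} (h : J' ≤ J) (P : MorphismProperty C)
  (A' : ∀ X : C, ObjectProperty (Sheaf (J'.over X) AddCommGrpCat.{u})) [∀ X : C, WSerre.IsWeakSerre (A' X)]

/-- the hypotheses on the subcategories -/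
structure Sit : Prop where
  h2 : ∀ ⦃X Y : C⦄ (f : X ⟶ Y) (F' : Sheaf (J'.over Y) AddCommGrpCat.{u}), A' Y F' → A' X ((Rs J' f).obj F')
  h3 : ∀ (X : C) (F' : Sheaf (J'.over X) AddCommGrpCat.{u}), A' X F' → Presheaf.IsSheaf (J.over X) F'.obj
  h4 : ∀ ⦃X Y : C⦄ (f : X ⟶ Y), P f → ∀ (F' : Sheaf (J'.over X) AddCommGrpCat.{u}), A' X F' →
    ∀ i : ℕ, A' Y (((Pf J' f).rightDerived i).obj F')
  h5 : ∀ (U : C) (S : Sieve U), S ∈ J U → ∃ (ι : Type u) (V : ι → C) (v : ∀ j, V j ⟶ U),
    Sieve.ofArrows V v ∈ J' U ∧ ∀ j, ∃ (W : C) (w : W ⟶ V j), P w ∧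
      Sieve.ofArrows (fun _ : PUnit.{u + 1} => W) (fun _ => w) ∈ J (V j) ∧
      ∃ (κ : Type u) (Wk : κ → C) (wk : ∀ k, Wk k ⟶ W), Sieve.ofArrows Wk wk ∈ J' W ∧ ∀ k, S.arrows (wk k ≫ w ≫ v j)

/-- the sheaves for the finer topology in the subcategory -/
def InA (X : C) (F : Sheaf (J.over X) AddCommGrpCat.{u}) : Prop := A' X ((EX h X).obj F)

/-- vanishing of the first `n` higher comparison images -/
def Van (n : ℕ) : Prop :=
  ∀ (X : C) (F : Sheaf (J.over X) AddCommGrpCat.{u}), InA h A' X F → ∀ i : ℕ, 1 ≤ i → i ≤ n →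
    IsZero (((EX h X).rightDerived i).obj F)

variable {h P A'} (H : Sit (J := J) P A')

lemma inA_of_iso {X : C} {F G : Sheaf (J.over X) AddCommGrpCat.{u}} (e : F ≅ G) (hF : InA h A' X F) :
    InA h A' X G :=
  (A' X).prop_of_iso ((EX h X).mapIso e) hF

include H

lemma sep_A' {X : C} {S : Sheaf (J'.over X) AddCommGrpCat.{u}} (hS : A' X S) : Sep (SiteCmp.over_le h X) S :=
  sep_of_isSheaf _ (H.h3 X S hS)

lemma isIso_unit_A' {X : C} {S : Sheaf (J'.over X) AddCommGrpCat.{u}} (hS : A' X S) :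
    IsIso ((aAdj (SiteCmp.over_le h X)).unit.app S) :=
  isIso_unit_of_isSheaf _ S (H.h3 X S hS)

lemma inA_aSh {X : C} {S : Sheaf (J'.over X) AddCommGrpCat.{u}} (hS : A' X S) :
    InA h A' X ((aSh (J.over X) (J'.over X)).obj S) :=
  haveI := isIso_unit_A' (h := h) H hS
  (A' X).prop_of_iso (asIso ((aAdj (SiteCmp.over_le h X)).unit.app S)) hS

lemma inA_restrict {X Y : C} (f : X ⟶ Y) {F : Sheaf (J.over Y) AddCommGrpCat.{u}} (hF : InA h A' Y F) :
    InA h A' X ((Rs J f).obj F) :=
  (A' X).prop_of_iso ((restrictE f h).app F) (H.h2 f _ hF)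

lemma prop_Pf {X Y : C} (f : X ⟶ Y) (hf : P f) {G : Sheaf (J'.over X) AddCommGrpCat.{u}} (hG : A' X G) :
    A' Y ((Pf J' f).obj G) :=
  (A' Y).prop_of_iso ((Pf J' f).rightDerivedZeroIsoSelf.app G) (H.h4 f hf G hG 0)

lemma inA_push {X Y : C} (f : X ⟶ Y) (hf : P f) {F : Sheaf (J.over X) AddCommGrpCat.{u}} (hF : InA h A' X F) :
    InA h A' Y ((Pf J f).obj F) :=
  (A' Y).prop_of_iso ((pushE f h).app F) (prop_Pf H f hf hF)

omit H in
lemma eps_exact (n : ℕ) (hV : Van h A' n) {X : C} {K : CochainComplex (Sheaf (J.over X) AddCommGrpCat.{u}) ℕ}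
    (hK : IsRes K) (h0 : InA h A' X (K.cycles 0)) (i : ℕ) (h1 : 1 ≤ i) (hi : i ≤ n) :
    (mapCx (EX h X) K).ExactAt i := by
  obtain ⟨e⟩ := homology_rightDerived (EX h X) K hK.inj i (fun k hk _ => hK.exact k hk) i le_rfl
  exact (exactAt_iff_isZero_homology _ _).2 ((hV X _ h0 i h1 hi).of_iso e)

/-- `ε f_* K ≅ f_* ε K` -/
noncomputable def pushCxIso {X Y : C} (f : X ⟶ Y) (K : CochainComplex (Sheaf (J.over X) AddCommGrpCat.{u}) ℕ) :
    mapCx (Pf J' f) (mapCx (EX h X) K) ≅ mapCx (EX h Y) (mapCx (Pf J f) K) :=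
  (NatIso.mapHomologicalComplex (pushE f h) (ComplexShape.up ℕ)).app K

/-- direct images of resolutions, through degree `n` -/
theorem pushed_prop (n : ℕ) (hV : Van h A' n) {X Y : C} (f : X ⟶ Y) (hf : P f)
    {K : CochainComplex (Sheaf (J.over X) AddCommGrpCat.{u}) ℕ} (hK : IsRes K) (h0 : InA h A' X (K.cycles 0)) :
    (∀ i, i ≤ n → A' Y ((mapCx (EX h Y) (mapCx (Pf J f) K)).homology i)) ∧
      A' Y (kernel (cmp (Pf J' f) (mapCx (EX h X) K) (n + 1))) := by
  haveI : ∀ i, Injective (K.X i) := hK.inj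
  have hinj : ∀ i, Injective ((mapCx (EX h X) K).X i) := fun i =>
    inferInstanceAs (Injective ((EX h X).obj (K.X i)))
  have hex := eps_exact (h := h) (A' := A') n hV hK h0
  have h0' : A' X ((mapCx (EX h X) K).cycles 0) := (A' X).prop_of_iso (mapCycles (EX h X) K 0).symm h0
  refine ⟨fun i hi => ?_, ?_⟩
  · obtain ⟨e⟩ := homology_rightDerived (Pf J' f) (mapCx (EX h X) K) hinj n hex i hi
    exact (A' Y).prop_of_iso (e.symm ≪≫ (HomologicalComplex.homologyFunctor _ _ i).mapIso (pushCxIso f K))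
      (H.h4 f hf _ h0' i)
  · obtain ⟨e⟩ := kernel_cmp_rightDerived (Pf J' f) (mapCx (EX h X) K) hinj n hex n le_rfl
    exact (A' Y).prop_of_iso e.symm (H.h4 f hf _ h0' (n + 1))

theorem inA_pushed (n : ℕ) (hV : Van h A' n) {X Y : C} (f : X ⟶ Y) (hf : P f)
    {K : CochainComplex (Sheaf (J.over X) AddCommGrpCat.{u}) ℕ} (hK : IsRes K) (h0 : InA h A' X (K.cycles 0))
    (i : ℕ) (hi : i ≤ n) : InA h A' Y ((mapCx (Pf J f) K).homology i) :=
  inA_of_iso (aEIso (SiteCmp.over_le h Y) (mapCx (Pf J f) K) i)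
    (inA_aSh H ((pushed_prop H n hV f hf hK h0).1 i hi))

section Cover

variable {W Y : C} (w : W ⟶ Y) (hw : P w)
  (hcov : Sieve.ofArrows (fun _ : PUnit.{u + 1} => W) (fun _ => w) ∈ J Y)

omit H in
include hcov in
lemma mono_unit_cover (M : Sheaf (J.over Y) AddCommGrpCat.{u}) : Mono ((adjR J w).unit.app M) := by
  refine Preadditive.mono_of_isZero_kernel _ (isZero_of_restrict w hcov _ ?_)
  refine IsZero.of_mono_eq_zero ((Rs J w).map (kernel.ι ((adjR J w).unit.app M))) ?_
  have e := (adjR J w).left_triangle_components M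
  refine ((comp_id _).symm.trans (congrArg (_ ≫ ·) e.symm)).trans ?_
  rw [← assoc, ← Functor.map_comp, kernel.condition, Functor.map_zero, zero_comp]

/-- `w_* w^*` -/
noncomputable abbrev Tw : Sheaf (J.over Y) AddCommGrpCat.{u} ⥤ Sheaf (J.over Y) AddCommGrpCat.{u} :=
  Rs J w ⋙ Pf J w

include hw hcov in
/-- the cokernel of the unit is in the subcategory -/
theorem inA_cokernel_unit {F : Sheaf (J.over Y) AddCommGrpCat.{u}} (hF : InA h A' Y F) :
    InA h A' Y (cokernel ((adjR J w).unit.app F)) := by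
  let a := adjR J w
  let T := Tw (J := J) w
  let u : ∀ M, M ⟶ T.obj M := fun M => a.unit.app M
  let d1 : T.obj F ⟶ T.obj (T.obj F) := u (T.obj F) - T.map (u F)
  let d2 : T.obj (T.obj F) ⟶ T.obj (T.obj (T.obj F)) :=
    u (T.obj (T.obj F)) - T.map (u (T.obj F)) + T.map (T.map (u F))
  have e1 : ∀ {M N : Sheaf (J.over Y) AddCommGrpCat.{u}} (φ : M ⟶ N), φ ≫ u N = u M ≫ T.map φ :=
    fun φ => a.unit.naturality φ
  have e2 : ∀ {M N : Sheaf (J.over Y) AddCommGrpCat.{u}} (φ : M ⟶ N),
      T.map φ ≫ T.map (u N) = T.map (u M) ≫ T.map (T.map φ) := fun φ => by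
    rw [← T.map_comp, ← T.map_comp, e1]
  have w0 : u F ≫ d1 = 0 := by
    simp only [d1, Preadditive.comp_sub]
    rw [e1 (u F), sub_self]
  have w1 : d1 ≫ d2 = 0 := by
    simp only [d1, d2, Preadditive.comp_sub, Preadditive.sub_comp, Preadditive.comp_add]
    rw [e1 (u (T.obj F)), e1 (T.map (u F)), e2 (u F)]
    abel
  let hM : ∀ M, (Rs J w).obj (T.obj M) ⟶ (Rs J w).obj M := fun M => a.counit.app ((Rs J w).obj M)
  have t1 : ∀ M, (Rs J w).map (u M) ≫ hM M = 𝟙 _ := fun M => a.left_triangle_components M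
  have t2 : ∀ {M N : Sheaf (J.over Y) AddCommGrpCat.{u}} (φ : M ⟶ N),
      (Rs J w).map (T.map φ) ≫ hM N = hM M ≫ (Rs J w).map φ := fun φ => a.counit.naturality ((Rs J w).map φ)
  have reflect : ∀ S : ShortComplex (Sheaf (J.over Y) AddCommGrpCat.{u}), (S.map (Rs J w)).Exact → S.Exact := by
    intro S hS
    rw [ShortComplex.exact_iff_isZero_homology] at hS ⊢
    exact isZero_of_restrict w hcov _ (hS.of_iso (S.mapHomologyIso (Rs J w)).symm)
  have k0 : ∀ {A : Sheaf (J.over W) AddCommGrpCat.{u}} (z : A ⟶ (Rs J w).obj (T.obj F)),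
      z ≫ (Rs J w).map d1 = 0 → z = (z ≫ hM F) ≫ (Rs J w).map (u F) := by
    intro A z hz
    have hh : z ≫ (Rs J w).map d1 ≫ hM (T.obj F) = 0 := by rw [← assoc, hz, zero_comp]
    simp only [d1, Functor.map_sub, Preadditive.sub_comp, t1, t2, Preadditive.comp_sub, comp_id, sub_eq_zero] at hh
    rw [assoc]
    exact hh
  have k1 : ∀ {A : Sheaf (J.over W) AddCommGrpCat.{u}} (z : A ⟶ (Rs J w).obj (T.obj (T.obj F))),
      z ≫ (Rs J w).map d2 = 0 → z = (z ≫ hM (T.obj F)) ≫ (Rs J w).map d1 := by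
    intro A z hz
    have hh : z ≫ (Rs J w).map d2 ≫ hM (T.obj (T.obj F)) = 0 := by rw [← assoc, hz, zero_comp]
    simp only [d2, Functor.map_sub, Functor.map_add, Preadditive.add_comp, Preadditive.sub_comp, t1, t2,
      Preadditive.comp_add, Preadditive.comp_sub, comp_id] at hh
    simp only [d1, Functor.map_sub, Preadditive.comp_sub, assoc]
    rw [← sub_eq_zero, ← hh]
    abel
  have x0 : (ShortComplex.mk (u F) d1 w0).Exact :=
    reflect _ ((ShortComplex.exact_iff_exact_up_to_refinements _).2 fun A z hz =>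
      ⟨A, 𝟙 A, inferInstance, z ≫ hM F, (id_comp z).trans (k0 z hz)⟩)
  have x1 : (ShortComplex.mk d1 d2 w1).Exact :=
    reflect _ ((ShortComplex.exact_iff_exact_up_to_refinements _).2 fun A z hz =>
      ⟨A, 𝟙 A, inferInstance, z ≫ hM (T.obj F), (id_comp z).trans (k1 z hz)⟩)
  obtain ⟨e⟩ := exists_kernel_iso_cokernel (u F) d1 d2 w0 w1 x0 x1
  have h1T : InA h A' Y (T.obj F) := inA_push H w hw (inA_restrict H w hF)
  have h2T : InA h A' Y (T.obj (T.obj F)) := inA_push H w hw (inA_restrict H w h1T)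
  have h3T : InA h A' Y (T.obj (T.obj (T.obj F))) := inA_push H w hw (inA_restrict H w h2T)
  refine inA_of_iso e.symm ((A' Y).prop_of_iso (PreservesKernel.iso (EX h Y) d2).symm ?_)
  exact (A' Y).prop_kernel _ h2T h3T

include hw hcov in
/-- sections which vanish on a cover vanish: the unit is injective on the first unknown comparison image -/
theorem mono_unit_homology (n : ℕ) (hV : Van h A' n) {I : CochainComplex (Sheaf (J.over Y) AddCommGrpCat.{u}) ℕ}
    (hI : IsRes I) (h0 : InA h A' Y (I.cycles 0)) :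
    Mono ((adjR J' w).unit.app ((mapCx (EX h Y) I).homology (n + 1))) := by
  let hY := SiteCmp.over_le h Y
  haveI : PreservesFiniteColimits (aSh (J.over Y) (J'.over Y)) := preservesFiniteColimits_aSh hY
  haveI : ∀ i, Injective (I.X i) := hI.inj
  let IW := mapCx (Rs J w) I
  have hIW : IsRes IW := isRes_map (Rs J w) (fun I _ => inferInstance) hI
  have h0W : InA h A' W (IW.cycles 0) := inA_of_iso (mapCycles (Rs J w) I 0).symm (inA_restrict H w h0)
  let D := mapCx (Pf J w) IW
  let γ : I ⟶ D := { f := fun i => (adjR J w).unit.app (I.X i)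
                     comm' := fun i j _ => ((adjR J w).unit.naturality (I.d i j)).symm }
  haveI : Mono γ := HomologicalComplex.mono_of_mono_f γ fun i => mono_unit_cover w hcov (I.X i)
  let S : ShortComplex (CochainComplex (Sheaf (J.over Y) AddCommGrpCat.{u}) ℕ) :=
    ShortComplex.mk γ (cokernel.π γ) (cokernel.condition γ)
  have hS : S.ShortExact := HomologicalComplex.shortExact_of_degreewise_shortExact S fun i =>
    { exact := ShortComplex.exact_of_g_is_cokernel _
        (CokernelCofork.mapIsColimit _ (cokernelIsCokernel γ) (HomologicalComplex.eval _ (ComplexShape.up ℕ) i))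
      mono_f := mono_unit_cover w hcov (I.X i)
      epi_g := Cofork.IsColimit.epi
        (CokernelCofork.mapIsColimit _ (cokernelIsCokernel γ) (HomologicalComplex.eval _ (ComplexShape.up ℕ) i)) }
  haveI : ∀ i, Injective (IW.X i) := hIW.inj
  have hDinj : ∀ i, Injective (D.X i) := fun i => inferInstanceAs (Injective ((Pf J w).obj (IW.X i)))
  have hQinj : ∀ i, Injective (S.X₃.X i) := injective_X₃ hS hI.inj hDinj
  have hE : (S.map ((EX h Y).mapHomologicalComplex (ComplexShape.up ℕ))).ShortExact :=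
    shortExact_mapCx (EX h Y) hS hI.inj
  obtain ⟨hD, hker⟩ := pushed_prop H n hV w hw hIW h0W
  -- cohomology of the cokernel
  have hQ0 : InA h A' Y (S.X₃.homology 0) := by
    haveI : Epi (homologyMap S.g 0) :=
      (hS.homology_exact₃ 0 1 rfl).epi_f ((hI.isZero 1 le_rfl).eq_of_tgt _ _)
    haveI := I.isIso_homologyπ _ 0 rfl (I.shape _ _ (by simp))
    haveI := D.isIso_homologyπ _ 0 rfl (D.shape _ _ (by simp))
    let m₂ : D.homology 0 ≅ (Tw (J := J) w).obj (I.cycles 0) :=
      (asIso (D.homologyπ 0)).symm ≪≫ mapCycles (Pf J w) IW 0 ≪≫ (Pf J w).mapIso (mapCycles (Rs J w) I 0)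
    have hsq : homologyMap S.f 0 ≫ m₂.hom = (asIso (I.homologyπ 0)).symm.hom ≫ (adjR J w).unit.app (I.cycles 0) := by
      haveI : Mono ((Tw (J := J) w).map (I.iCycles 0)) := inferInstance
      rw [← cancel_epi (I.homologyπ 0), ← cancel_mono ((Tw (J := J) w).map (I.iCycles 0))]
      simp only [m₂, Iso.trans_hom, Iso.symm_hom, asIso_inv, Functor.mapIso_hom, assoc, IsIso.hom_inv_id_assoc]
      rw [HomologicalComplex.homologyπ_naturality_assoc, IsIso.hom_inv_id_assoc]
      change cyclesMap γ 0 ≫ (mapCycles (Pf J w) IW 0).hom ≫ (Pf J w).map (mapCycles (Rs J w) I 0).hom ≫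
        (Pf J w).map ((Rs J w).map (I.iCycles 0)) = _
      rw [← Functor.map_comp, mapCycles_hom_i, mapCycles_hom_i]
      change cyclesMap γ 0 ≫ D.iCycles 0 = _
      rw [HomologicalComplex.cyclesMap_i]
      exact (adjR J w).unit.naturality (I.iCycles 0)
    have e₁ : S.X₃.homology 0 ≅ cokernel (homologyMap S.f 0) :=
      IsColimit.coconePointUniqueUpToIso (hS.homology_exact₂ 0).gIsCokernel (colimit.isColimit _)
    exact inA_of_iso (e₁ ≪≫ cokernel.mapIso _ _ (asIso (I.homologyπ 0)).symm m₂ hsq).symm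
      (inA_cokernel_unit H w hw hcov h0)
  have hQ : ∀ j, j ≤ n → InA h A' Y (S.X₃.homology j) := by
    intro j hj
    obtain rfl | hj' := Nat.eq_zero_or_pos j
    · exact hQ0
    haveI : Epi (homologyMap S.g j) :=
      (hS.homology_exact₃ j (j + 1) rfl).epi_f ((hI.isZero (j + 1) (by omega)).eq_of_tgt _ _)
    haveI : Mono (homologyMap S.g j) :=
      (hS.homology_exact₂ j).mono_g ((hI.isZero j hj').eq_of_src _ _)
    haveI : IsIso (homologyMap S.g j) := isIso_of_mono_of_epi _
    exact inA_of_iso (asIso (homologyMap S.g j)) (inA_pushed H n hV w hw hIW h0W j hj)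
  -- the kernel of `K → M`
  let g := homologyMap ((EX h Y).mapHomologicalComplex (ComplexShape.up ℕ) |>.map γ) (n + 1)
  have hg : Sep hY (kernel g) := by
    obtain ⟨e⟩ := exists_kernel_iso_cokernel _ _ g _ _ (hE.homology_exact₃ n (n + 1) rfl)
      (hE.homology_exact₁ n (n + 1) rfl)
    refine sep_of_mono' hY e.inv ?_
    rcases Nat.eq_zero_or_pos n with hn | hn
    · subst hn
      exact sep_A' (h := h) H ((A' Y).prop_cokernel _ (hD 0 le_rfl)
        ((A' Y).prop_of_iso (asIso (cmp (EX h Y) S.X₃ 0)).symm hQ0))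
    let a := aSh (J.over Y) (J'.over Y)
    have hs : Sep hY ((mapCx (EX h Y) S.X₃).homology n) := by
      haveI : Mono (cmp (EX h Y) S.X₃ n) := mono_cmp_E hY S.X₃ hQinj n fun j hj p hp =>
        killed_of_isZero hY (hV Y _ (hQ j (by omega)) (p + 1) (by omega) (by omega))
      exact sep_of_mono hY (cmp (EX h Y) S.X₃ n)
    let φ := homologyMap ((EX h Y).mapHomologicalComplex (ComplexShape.up ℕ) |>.map S.g) n
    have hzI : ∀ i, 1 ≤ i → IsZero (a.obj ((mapCx (EX h Y) I).homology i)) := fun i hi =>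
      (hI.isZero i hi).of_iso (aEIso hY I i)
    haveI : Epi (a.map φ) :=
      ((hE.homology_exact₃ n (n + 1) rfl).map a).epi_f ((hzI (n + 1) (by omega)).eq_of_tgt _ _)
    haveI : Mono (a.map φ) :=
      ((hE.homology_exact₂ n).map a).mono_g ((hzI n hn).eq_of_src _ _)
    haveI : IsIso (a.map φ) := isIso_of_mono_of_epi _
    haveI : IsIso φ := isIso_of_local hY (isIso_unit_A' (h := h) H (hD n le_rfl)) hs φ
    haveI : Epi φ := inferInstance
    have hz : IsZero (cokernel φ) := isZero_cokernel_of_epi φ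
    exact ⟨fun a b _ => hz.eq_of_tgt a b⟩
  -- comparison with the direct image
  let η := (adjR J' w).unit.app ((mapCx (EX h Y) I).homology (n + 1))
  let T := kernel η
  have haT : IsZero ((aSh (J.over Y) (J'.over Y)).obj T) := by
    have hz : IsZero ((aSh (J.over Y) (J'.over Y)).obj ((mapCx (EX h Y) I).homology (n + 1))) :=
      (hI.isZero (n + 1) (by omega)).of_iso (aEIso hY I (n + 1))
    exact IsZero.of_mono ((aSh (J.over Y) (J'.over Y)).map (kernel.ι η)) hz
  let eM := (HomologicalComplex.homologyFunctor _ _ (n + 1)).mapIso (pushCxIso (h := h) w IW).symm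
  let c := cmp (Pf J' w) (mapCx (EX h W) IW) (n + 1)
  let k : (mapCx (EX h Y) I).homology (n + 1) ⟶ _ := g ≫ eM.hom ≫ c
  have hk : kernel.ι η ≫ k = 0 := by
    obtain ⟨t, ht⟩ := ((adjR J' w).homEquiv _ _).surjective k
    rw [← ht, Adjunction.homEquiv_unit, ← assoc, kernel.condition, zero_comp]
  have h1 : kernel.ι η ≫ g = 0 := by
    have := hom_eq_zero hY haT (sep_A' (h := h) H hker) (kernel.lift c (kernel.ι η ≫ g ≫ eM.hom)
      (by rw [assoc, assoc]; exact hk))
    have h' := congrArg (· ≫ kernel.ι c) this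
    simp only [kernel.lift_ι, zero_comp] at h'
    rwa [← assoc, Preadditive.IsIso.comp_right_eq_zero] at h'
  have h2 := congrArg (· ≫ kernel.ι g) (hom_eq_zero hY haT hg (kernel.lift g (kernel.ι η) h1))
  simp only [kernel.lift_ι, zero_comp] at h2
  exact Preadditive.mono_of_isZero_kernel η (IsZero.of_mono_eq_zero _ h2)

include hw hcov in
/-- a global section vanishing on the cover vanishes -/
theorem section_eq_zero (n : ℕ) (hV : Van h A' n) {I : CochainComplex (Sheaf (J.over Y) AddCommGrpCat.{u}) ℕ}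
    (hI : IsRes I) (h0 : InA h A' Y (I.cycles 0)) {K : Sheaf (J'.over Y) AddCommGrpCat.{u}}
    (e : K ≅ (mapCx (EX h Y) I).homology (n + 1)) (x : K.obj.obj (op (Over.mk (𝟙 Y))))
    (hx : K.obj.map (Over.homMk w (comp_id w) : Over.mk w ⟶ Over.mk (𝟙 Y)).op x = 0) : x = 0 := by
  haveI := mono_unit_homology H w hw hcov n hV hI h0
  haveI : Mono ((adjR J' w).unit.app K) := by
    haveI : Mono ((adjR J' w).unit.app K ≫ (Rs J' w ⋙ Pf J' w).map e.hom) := by
      rw [← (adjR J' w).unit.naturality e.hom]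
      exact mono_comp _ _
    exact mono_of_mono _ ((Rs J' w ⋙ Pf J' w).map e.hom)
  let φ := (SiteCoh.secEquiv (Over.mk (𝟙 Y)) K).symm x
  have hφ : φ = 0 := by
    rw [← cancel_mono ((adjR J' w).unit.app K), zero_comp]
    refine ((adjR J' w).unit.naturality φ).trans ?_
    change _ ≫ (Pf J' w).map ((Rs J' w).map φ) = 0
    rw [restrict_secEquiv_symm_eq_zero J' w K x hx, Functor.map_zero, comp_zero]
  rw [← (SiteCoh.secEquiv (Over.mk (𝟙 Y)) K).apply_symm_apply x]
  exact (congrArg _ hφ).trans (map_zero _)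

end Cover

/-- restriction of the comparison images -/
noncomputable def restrictHomologyIso {X Z : C} (g : Z ⟶ X) (I : CochainComplex (Sheaf (J.over X) AddCommGrpCat.{u}) ℕ)
    (i : ℕ) : (Rs J' g).obj ((mapCx (EX h X) I).homology i) ≅ (mapCx (EX h Z) (mapCx (Rs J g) I)).homology i :=
  (((mapCx (EX h X) I).sc i).mapHomologyIso (Rs J' g)).symm ≪≫
    (HomologicalComplex.homologyFunctor _ _ i).mapIso
      ((NatIso.mapHomologicalComplex (restrictE g h) (ComplexShape.up ℕ)).app I)

/-- all global sections of the next comparison image vanish -/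
theorem top_section_eq_zero (n : ℕ) (hV : Van h A' n) {Z : C} {I : CochainComplex (Sheaf (J.over Z) AddCommGrpCat.{u}) ℕ}
    (hI : IsRes I) (h0 : InA h A' Z (I.cycles 0))
    (x : ((mapCx (EX h Z) I).homology (n + 1)).obj.obj (op (Over.mk (𝟙 Z)))) : x = 0 := by
  let K := (mapCx (EX h Z) I).homology (n + 1)
  let T : Over Z := Over.mk (𝟙 Z)
  have hts : toSheafify (J.over Z) K.obj = 0 :=
    ((sheafToPresheaf (J.over Z) AddCommGrpCat.{u}).map_isZero
      ((hI.isZero (n + 1) (by omega)).of_iso (aEIso (SiteCmp.over_le h Z) I (n + 1)))).eq_of_tgt _ _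
  have hx : (toSheafify (J.over Z) K.obj).app (op T) x = (toSheafify (J.over Z) K.obj).app (op T) 0 := by
    rw [hts]; rfl
  let S := Sieve.overEquiv T (Presheaf.equalizerSieve (F := K.obj) x 0)
  have hS : S ∈ J Z := (J.mem_over_iff _).1 (Presheaf.equalizerSieve_mem (J.over Z) (toSheafify (J.over Z) K.obj) x 0 hx)
  obtain ⟨ι, V, v, hv, hd⟩ := H.h5 Z S hS
  refine (Presieve.IsSheafFor.isSeparatedFor
    ((isSheaf_iff_isSheaf_of_type _ _).1
      ((sheafCompose _ (forget AddCommGrpCat.{u})).obj K).property _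
      (J'.overEquiv_symm_mem_over T _ hv))).ext fun B g hg => ?_
  change K.obj.map g.op x = K.obj.map g.op 0
  rw [map_zero]
  rw [Sieve.overEquiv_symm_iff] at hg
  obtain ⟨_, q, _, ⟨j⟩, hq⟩ := hg
  let t : (Over.map (v j)).obj (Over.mk (𝟙 (V j))) ⟶ T := Over.mkIdTerminal.from _
  let b : B ⟶ (Over.map (v j)).obj (Over.mk (𝟙 (V j))) := Over.homMk q (by
    change q ≫ 𝟙 (V j) ≫ v j = B.hom
    rw [id_comp, hq, ← Over.w g]
    exact (comp_id _).symm)
  suffices hj : K.obj.map t.op x = 0 by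
    rw [show g = b ≫ t from Over.mkIdTerminal.hom_ext _ _, op_comp, Functor.map_comp, ConcreteCategory.comp_apply, hj,
      map_zero]
  obtain ⟨W, w, hw, hcov, κ, Wk, wk, hwk, hk⟩ := hd j
  have hIV : IsRes (mapCx (Rs J (v j)) I) := isRes_map (Rs J (v j)) (fun I _ => inferInstance) hI
  refine section_eq_zero H w hw hcov n hV hIV
    (inA_of_iso (mapCycles (Rs J (v j)) I 0).symm (inA_restrict H (v j) h0))
    (restrictHomologyIso (v j) I (n + 1)) (K.obj.map t.op x) ?_
  let m : (Over.map (v j)).obj (Over.mk w) ⟶ T := Over.mkIdTerminal.from _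
  change K.obj.map ((Over.map (v j)).map (Over.homMk w (comp_id w) : Over.mk w ⟶ Over.mk (𝟙 (V j)))).op (K.obj.map t.op x) = 0
  rw [← ConcreteCategory.comp_apply, ← Functor.map_comp, ← op_comp,
    show (Over.map (v j)).map (Over.homMk w (comp_id w) : Over.mk w ⟶ Over.mk (𝟙 (V j))) ≫ t = m from Over.mkIdTerminal.hom_ext _ _]
  refine (Presieve.IsSheafFor.isSeparatedFor
    ((isSheaf_iff_isSheaf_of_type _ _).1
      ((sheafCompose _ (forget AddCommGrpCat.{u})).obj K).property _
      (J'.overEquiv_symm_mem_over ((Over.map (v j)).obj (Over.mk w)) _ hwk))).ext fun B' g' hg' => ?_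
  change K.obj.map g'.op (K.obj.map m.op x) = K.obj.map g'.op 0
  rw [map_zero]
  rw [Sieve.overEquiv_symm_iff] at hg'
  obtain ⟨_, q', _, ⟨k⟩, hq'⟩ := hg'
  have hkS := hk k
  rw [Sieve.overEquiv_iff] at hkS
  let b' : B' ⟶ Over.mk ((wk k ≫ w ≫ v j) ≫ T.hom) := Over.homMk q' (by
    change q' ≫ (wk k ≫ w ≫ v j) ≫ 𝟙 Z = B'.hom
    rw [comp_id, reassoc_of% hq']
    exact Over.w g')
  rw [← ConcreteCategory.comp_apply, ← Functor.map_comp, ← op_comp,
    show g' ≫ m = b' ≫ Over.homMk (wk k ≫ w ≫ v j) rfl from Over.mkIdTerminal.hom_ext _ _, op_comp,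
    Functor.map_comp, ConcreteCategory.comp_apply]
  exact (congrArg (K.obj.map b'.op) (hkS.trans (map_zero _))).trans (map_zero _)

/-- all higher comparison images vanish -/
theorem van (n : ℕ) : Van h A' n := by
  induction n with
  | zero => intro X F hF i h1 hi; omega
  | succ n ih =>
    intro X F hF i h1 hi
    rcases Nat.lt_or_ge i (n + 1) with hlt | hge
    · exact ih X F hF i h1 (by omega)
    obtain rfl : i = n + 1 := by omega
    let R := injectiveResolution F
    refine IsZero.of_iso ?_ (R.isoRightDerivedObj (EX h X) (n + 1))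
    rw [IsZero.iff_id_eq_zero]
    refine Sheaf.hom_ext ?_
    ext A s
    change s = 0
    let I := R.cocomplex
    have hI : IsRes I := isRes_of_resolution R
    let g : A.unop.left ⟶ X := A.unop.hom
    let K := (mapCx (EX h X) I).homology (n + 1)
    let ei : A.unop ≅ (Over.map g).obj (Over.mk (𝟙 A.unop.left)) :=
      Over.isoMk (Iso.refl _) (by change 𝟙 _ ≫ 𝟙 _ ≫ g = _; rw [id_comp, id_comp])
    let e := restrictHomologyIso (h := h) g I (n + 1)
    let y := e.hom.hom.app (op (Over.mk (𝟙 A.unop.left))) (K.obj.map ei.inv.op s)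
    have hy : y = 0 := top_section_eq_zero H n ih (isRes_map (Rs J g) (fun I _ => inferInstance) hI)
      (inA_of_iso (mapCycles (Rs J g) I 0).symm
        (inA_restrict H g (inA_of_iso (cyclesResIso R).symm hF))) y
    have hinj : Function.Injective fun z => e.hom.hom.app (op (Over.mk (𝟙 A.unop.left))) (K.obj.map ei.inv.op z) := by
      haveI : IsIso (e.hom.hom.app (op (Over.mk (𝟙 A.unop.left)))) :=
        inferInstanceAs (IsIso (((sheafToPresheaf _ _).mapIso e).hom.app _))
      exact ((ConcreteCategory.isIso_iff_bijective _).1 inferInstance).1.comp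
        ((ConcreteCategory.isIso_iff_bijective (K.obj.map ei.inv.op)).1 inferInstance).1
    exact hinj (hy.trans ((map_zero (e.hom.hom.app (op (Over.mk (𝟙 A.unop.left)))).hom).symm.trans
      (congrArg _ (map_zero (K.obj.map ei.inv.op).hom).symm)))

end Groth.Agent.CmpSite
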