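import Groth.Agent.CmpSite.Compare
import Groth.Agent.SiteCoh.Derived
import Groth.Agent.SiteCoh.Kill

/-!
Classes with equal pullbacks along a cover are killed locally on the base.
-/

set_option autoImplicit false
set_option linter.style.haveILetI false
set_option linter.unusedSectionVars false
set_option backward.isDefEq.respectTransparency false
set_option backward.isDefEq.respectTransparency.types false
set_option maxHeartbeats 2000000

universe u

open CategoryTheory Category Limits Opposite HomologicalComplex Abelian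

namespace Groth.Agent.CmpSite

variable {C : Type u} [SmallCategory C] {J J' : GrothendieckTopology C} {P : MorphismProperty C}
  {A' : ∀ X : C, ObjectProperty (Sheaf (J'.over X) AddCommGrpCat.{u})} [∀ X : C, WSerre.IsWeakSerre (A' X)]
  (H : Sit (J := J) P A')

lemma res_comp {D : Type u} [SmallCategory D] {K : GrothendieckTopology D} (F : Sheaf K AddCommGrpCat.{u}) (n : ℕ)
    {U V W : D} (a : W ⟶ V) (b : V ⟶ U) (θ : CohSite.HU F n U) :
    CohSite.res F n (a ≫ b) θ = CohSite.res F n a (CohSite.res F n b θ) :=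
  ConcreteCategory.congr_hom (((Sheaf.cohomologyPresheaf.{u} F n).map_comp b.op a.op)) θ

include H

theorem exists_cover_killing {X Y : C} (f : X ⟶ Y) [HasPullbacksAlong f] (hf : P f)
    (hcov : Sieve.ofArrows (fun _ : PUnit.{u + 1} => X) (fun _ => f) ∈ J Y)
    (F' : Sheaf (J'.over Y) AddCommGrpCat.{u}) (hF' : A' Y F') (n : ℕ) (θ : CohSite.HU F' (n + 1) (Over.mk f))
    (hθ : ∀ (W : C) (p q : W ⟶ X) (hW : IsPullback p q f f),
      CohSite.res F' (n + 1) (Over.homMk p rfl : Over.mk (p ≫ f) ⟶ Over.mk f) θ =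
        CohSite.res F' (n + 1) (Over.homMk q hW.w.symm : Over.mk (p ≫ f) ⟶ Over.mk f) θ) :
    ∃ (ι : Type u) (Z : ι → C) (g : ∀ i, Z i ⟶ Y), Sieve.ofArrows Z g ∈ J' Y ∧
      ∀ (i : ι) (W : C) (p : W ⟶ Z i) (q : W ⟶ X), IsPullback p q (g i) f →
        CohSite.res F' (n + 1) (Over.homMk q rfl : Over.mk (q ≫ f) ⟶ Over.mk f) θ = 0 := by
  haveI : (Over.pullback f).IsContinuous (J'.over Y) (J'.over X) :=
    (Over.mapPullbackAdj f).isContinuous_of_isCocontinuous _ _
  let u : Over Y ⥤ Over Y := Over.pullback f ⋙ Over.map f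
  haveI : u.IsContinuous (J'.over Y) (J'.over Y) := Functor.isContinuous_comp _ _ _ (J'.over X) _
  -- the higher direct image lies in the subcategory
  let G := (CohSite.Rpush (J'.over Y) (J'.over Y) u (n + 1)).obj F'
  have hG : A' Y G := by
    let R := injectiveResolution F'
    have hR : IsRes (mapCx (Rs J' f) R.cocomplex) :=
      isRes_map (Rs J' f) (fun I _ => inferInstance) (isRes_of_resolution R)
    let eP : CohSite.push (J'.over X) (J'.over Y) (Over.pullback f) ≅ Pf J' f :=
      Adjunction.rightAdjointUniq ((Over.mapPullbackAdj f).sheafPushforwardContinuous (E := AddCommGrpCat.{u}) (J'.over X) (J'.over Y)) (adjR J' f)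
    let eu : CohSite.push (J'.over Y) (J'.over Y) u ≅ Rs J' f ⋙ Pf J' f :=
      NatIso.ofComponents (fun F => ⟨⟨𝟙 _⟩, ⟨𝟙 _⟩, Sheaf.hom_ext (id_comp _), Sheaf.hom_ext (id_comp _)⟩)
        (fun φ => Sheaf.hom_ext ((comp_id _).trans (id_comp _).symm)) ≪≫
      Functor.isoWhiskerLeft (Rs J' f) eP
    obtain ⟨e⟩ := homology_rightDerived (Pf J' f) (mapCx (Rs J' f) R.cocomplex) hR.inj (n + 1)
      (fun i hi _ => hR.exact i hi) (n + 1) le_rfl
    have h0 : A' X ((mapCx (Rs J' f) R.cocomplex).cycles 0) :=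
      (A' X).prop_of_iso (mapCycles (Rs J' f) R.cocomplex 0).symm
        (H.h2 f _ ((A' Y).prop_of_iso (cyclesResIso R).symm hF'))
    exact (A' Y).prop_of_iso (e.symm ≪≫ (HomologicalComplex.homologyFunctor _ _ (n + 1)).mapIso
      ((NatIso.mapHomologicalComplex eu (ComplexShape.up ℕ)).app R.cocomplex).symm ≪≫
      (R.isoRightDerivedObj (CohSite.push (J'.over Y) (J'.over Y) u) (n + 1)).symm) (H.h4 f hf _ h0 (n + 1))
  let Q := u.op ⋙ SiteCoh.hPre F' (n + 1)
  let Sh := (presheafToSheaf (J'.over Y) AddCommGrpCat.{u}).obj Q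
  have hSh : A' Y Sh := (A' Y).prop_of_iso (SiteCoh.rpushIso u F' (n + 1)) hG
  have hJ : Presheaf.IsSheaf (J.over Y) Sh.obj := H.h3 Y Sh hSh
  -- the section
  let T : Over Y := Over.mk (𝟙 Y)
  let sn : ∀ A : Over Y, u.obj A ⟶ Over.mk f := fun A => Over.homMk (pullback.snd A.hom f) rfl
  have hsn : ∀ {A B : Over Y} (m : B ⟶ A), u.map m ≫ sn A = sn B := fun {A B} m => by
    ext
    exact pullback.lift_snd _ _ _
  let θ' : Q.obj (op T) := (CohSite.res F' (n + 1) (sn T) θ : (SiteCoh.hPre F' (n + 1)).obj (op (u.obj T)))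
  have hθ' : ∀ {B : Over Y} (m : B ⟶ T), Q.map m.op θ' =
      (CohSite.res F' (n + 1) (sn B) θ : (SiteCoh.hPre F' (n + 1)).obj (op (u.obj B))) := fun {B} m => by
    rw [← hsn m, res_comp]
    rfl
  let ξ := (toSheafify (J'.over Y) Q).app (op T) θ'
  -- it vanishes on `X`
  obtain ⟨S, hS, hS'⟩ := SiteCoh.exists_sieve_res_eq_zero n F' θ
  let mX : Over.mk f ⟶ T := Over.homMk f (comp_id f)
  have hloc : Sh.obj.map mX.op ξ = 0 := by
    refine (Presieve.IsSheafFor.isSeparatedFor
      ((isSheaf_iff_isSheaf_of_type _ _).1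
        ((sheafCompose _ (forget AddCommGrpCat.{u})).obj Sh).property S hS)).ext fun B a ha => ?_
    change Sh.obj.map a.op (Sh.obj.map mX.op ξ) = Sh.obj.map a.op 0
    rw [map_zero, ← ConcreteCategory.comp_apply, ← Functor.map_comp, ← op_comp]
    refine (NatTrans.naturality_apply (toSheafify (J'.over Y) Q) (a ≫ mX).op θ').symm.trans ?_
    suffices hz : CohSite.res F' (n + 1) (sn B) θ = 0 by
      rw [hθ' (a ≫ mX), show (CohSite.res F' (n + 1) (sn B) θ) = _ from hz]
      exact map_zero _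
    let fs : u.obj B ⟶ B := Over.homMk (pullback.fst B.hom f) pullback.condition
    let l : (u.obj B).left ⟶ pullback f f := pullback.lift (pullback.fst B.hom f ≫ a.left) (pullback.snd B.hom f) (by
      rw [assoc, show a.left ≫ f = B.hom from Over.w a]
      exact pullback.condition)
    let L : u.obj B ⟶ Over.mk (pullback.fst f f ≫ f) := Over.homMk l (by
      change l ≫ pullback.fst f f ≫ f = pullback.snd B.hom f ≫ f
      rw [pullback.lift_fst_assoc, assoc, show a.left ≫ f = B.hom from Over.w a]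
      exact pullback.condition)
    have e1 : sn B = L ≫ (Over.homMk (pullback.snd f f) pullback.condition.symm :
        Over.mk (pullback.fst f f ≫ f) ⟶ Over.mk f) := by
      ext
      exact (pullback.lift_snd _ _ _).symm
    have e2 : fs ≫ a = L ≫ (Over.homMk (pullback.fst f f) rfl : Over.mk (pullback.fst f f ≫ f) ⟶ Over.mk f) := by
      ext
      exact (pullback.lift_fst _ _ _).symm
    rw [e1, res_comp, ← hθ _ _ _ (IsPullback.of_hasPullback f f), ← res_comp, ← e2, res_comp, hS' a ha, map_zero]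
  -- hence it vanishes
  have hξ : ξ = 0 := by
    refine (Presieve.IsSheafFor.isSeparatedFor
      ((isSheaf_iff_isSheaf_of_type _ _).1
        ((Presheaf.isSheaf_iff_isSheaf_forget _ _ (forget AddCommGrpCat.{u})).1 hJ) _
        (J.overEquiv_symm_mem_over T _ hcov))).ext fun B g hg => ?_
    change Sh.obj.map g.op ξ = Sh.obj.map g.op 0
    rw [map_zero]
    rw [Sieve.overEquiv_symm_iff] at hg
    obtain ⟨_, q, _, ⟨⟩, hq⟩ := hg
    let b : B ⟶ Over.mk f := Over.homMk q (by
      change q ≫ f = B.hom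
      rw [hq, ← Over.w g]
      exact (comp_id _).symm)
    rw [show g = b ≫ mX from Over.mkIdTerminal.hom_ext _ _, op_comp, Functor.map_comp, ConcreteCategory.comp_apply,
      hloc, map_zero]
  have hk : (toSheafify (J'.over Y) Q).app (op T) θ' = (toSheafify (J'.over Y) Q).app (op T) 0 :=
    hξ.trans (map_zero _).symm
  let E := Presheaf.equalizerSieve (F := Q) θ' 0
  have hE : Sieve.overEquiv T E ∈ J' Y :=
    (J'.mem_over_iff _).1 (Presheaf.equalizerSieve_mem (J'.over Y) (toSheafify (J'.over Y) Q) θ' 0 hk)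
  refine ⟨Σ Z : C, {g : Z ⟶ Y // (Sieve.overEquiv T E).arrows g}, fun i => i.1, fun i => i.2.1,
    J'.superset_covering (fun Z g hg => ?_) hE, ?_⟩
  · exact ⟨Z, 𝟙 Z, g, Presieve.ofArrows.mk (Y := fun i : (Σ Z : C, {g : Z ⟶ Y // (Sieve.overEquiv T E).arrows g}) => i.1)
      (f := fun i => i.2.1) ⟨Z, g, hg⟩, id_comp g⟩
  rintro ⟨Z, g, hg⟩ W p q hW
  rw [Sieve.overEquiv_iff] at hg
  have hg' := hg.trans (map_zero _)
  rw [hθ'] at hg'
  let k : Over.mk (q ≫ f) ⟶ u.obj (Over.mk (g ≫ T.hom)) :=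
    Over.homMk (pullback.lift (f := (Over.mk (g ≫ T.hom)).hom) p q (by
      change p ≫ g ≫ 𝟙 Y = q ≫ f
      rw [comp_id]
      exact hW.w)) (by
      change pullback.lift p q _ ≫ pullback.snd _ f ≫ f = q ≫ f
      rw [pullback.lift_snd_assoc])
  have e3 : (Over.homMk q rfl : Over.mk (q ≫ f) ⟶ Over.mk f) = k ≫ sn (Over.mk (g ≫ T.hom)) := by
    ext
    exact (pullback.lift_snd _ _ _).symm
  rw [e3, res_comp]
  exact (congrArg (CohSite.res F' (n + 1) k) hg').trans (map_zero _)

end Groth.Agent.CmpSite
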