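import Groth.Agent.CmpSite.Topology
import Groth.Agent.SiteCoh.Over
import Mathlib.CategoryTheory.Sites.CoverLifting

/-!
Restriction along `C/X ⥤ C/Y` and its right adjoint, for two topologies.
-/

set_option autoImplicit false
set_option linter.style.haveILetI false
set_option linter.unusedSectionVars false
set_option backward.isDefEq.respectTransparency false
set_option backward.isDefEq.respectTransparency.types false
set_option maxHeartbeats 1000000

universe u

open CategoryTheory Category Limits Opposite Abelian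

namespace Groth.Agent.CmpSite

variable {C : Type u} [SmallCategory C] (K : GrothendieckTopology C) {X Y : C} (f : X ⟶ Y)

/-- restriction -/
noncomputable abbrev Rs : Sheaf (K.over Y) AddCommGrpCat.{u} ⥤ Sheaf (K.over X) AddCommGrpCat.{u} :=
  CohSite.push (K.over Y) (K.over X) (Over.map f)

/-- direct image -/
noncomputable abbrev Pf : Sheaf (K.over X) AddCommGrpCat.{u} ⥤ Sheaf (K.over Y) AddCommGrpCat.{u} :=
  (Over.map f).sheafPushforwardCocontinuous AddCommGrpCat.{u} (K.over X) (K.over Y)

/-- their adjunction -/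
noncomputable abbrev adjR : Rs K f ⊣ Pf K f :=
  (Over.map f).sheafAdjunctionCocontinuous AddCommGrpCat.{u} (K.over X) (K.over Y)

instance isRightAdjoint_Pf : (Pf K f).IsRightAdjoint := (adjR K f).isRightAdjoint
instance preservesFiniteLimits_Pf : PreservesFiniteLimits (Pf K f) :=
  ⟨fun _ _ _ => (adjR K f).rightAdjoint_preservesLimits.preservesLimitsOfShape⟩
instance additive_Pf : (Pf K f).Additive := Functor.additive_of_preserves_binary_products _

instance preservesFiniteLimits_Rs : PreservesFiniteLimits (Rs K f) :=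
  haveI : (Rs K f).IsRightAdjoint := inferInstance
  ⟨fun _ _ _ => inferInstance⟩
instance preservesFiniteColimits_Rs : PreservesFiniteColimits (Rs K f) :=
  ⟨fun _ _ _ => (adjR K f).leftAdjoint_preservesColimits.preservesColimitsOfShape⟩

instance injective_Pf (I : Sheaf (K.over X) AddCommGrpCat.{u}) [Injective I] : Injective ((Pf K f).obj I) :=
  Injective.injective_of_adjoint (adjR K f) I

lemma injective_whisker_map (I : (Over Y)ᵒᵖ ⥤ AddCommGrpCat.{u}) [Injective I] :
    Injective ((Over.map f).op ⋙ I) := by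
  haveI := SiteCoh.injective_restrict_presheaf (Over.mk f) I
  let e := (Over.iteratedSliceEquiv (Over.mk f)).op
  exact ((e.congrLeft (E := AddCommGrpCat.{u})).map_injective_iff _).2 this

instance injective_Rs (I : Sheaf (K.over Y) AddCommGrpCat.{u}) [Injective I] : Injective ((Rs K f).obj I) where
  factors {A B} g m hm := by
    haveI : Injective I.obj := Injective.injective_of_adjoint (sheafificationAdjunction (K.over Y) AddCommGrpCat.{u}) I
    haveI : Injective ((Rs K f).obj I).obj := injective_whisker_map f I.obj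
    haveI : Mono m.hom := inferInstanceAs (Mono ((sheafToPresheaf _ _).map m))
    exact ⟨⟨Injective.factorThru g.hom m.hom⟩, Sheaf.hom_ext (Injective.comp_factorThru g.hom m.hom)⟩

variable {K} in
/-- restriction to a cover detects zero -/
theorem isZero_of_restrict (hf : Sieve.ofArrows (fun _ : PUnit.{u + 1} => X) (fun _ => f) ∈ K Y)
    (M : Sheaf (K.over Y) AddCommGrpCat.{u}) (hM : IsZero ((Rs K f).obj M)) : IsZero M := by
  rw [IsZero.iff_id_eq_zero]
  refine Sheaf.hom_ext ?_
  ext A s
  change s = 0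
  have hS : (Sieve.overEquiv A.unop).symm ((Sieve.ofArrows (fun _ : PUnit.{u + 1} => X) (fun _ => f)).pullback A.unop.hom) ∈
      (K.over Y) A.unop :=
    K.overEquiv_symm_mem_over _ _ (K.pullback_stable _ hf)
  refine (Presieve.IsSheafFor.isSeparatedFor
    ((isSheaf_iff_isSheaf_of_type _ _).1
      ((sheafCompose _ (forget AddCommGrpCat.{u})).obj M).property _ hS)).ext fun B g hg => ?_
  rw [Sieve.overEquiv_symm_iff] at hg
  obtain ⟨W, q, m, ⟨i⟩, hq⟩ := hg
  let ei : (Over.map f).obj (Over.mk q) ≅ B := Over.isoMk (Iso.refl _) (by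
    change 𝟙 _ ≫ B.hom = q ≫ f
    rw [id_comp, ← Over.w g]
    exact hq.symm)
  let e := ei.hom
  change M.obj.map g.op s = M.obj.map g.op 0
  have hinj : Function.Injective (M.obj.map e.op) :=
    ((ConcreteCategory.isIso_iff_bijective (M.obj.map e.op)).1 inferInstance).1
  refine hinj ?_
  have hz : ∀ z : ((Rs K f).obj M).obj.obj (op (Over.mk q)), z = 0 := fun z =>
    ConcreteCategory.congr_hom ((IsZero.iff_id_eq_zero _).1
      (((sheafToPresheaf (K.over X) AddCommGrpCat.{u}) ⋙ (evaluation _ _).obj (op (Over.mk q))).map_isZero hM)) z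
  exact (hz _).trans (hz _).symm

/-- a global section vanishing on `X` has zero restriction, as a morphism -/
theorem restrict_secEquiv_symm_eq_zero (M : Sheaf (K.over Y) AddCommGrpCat.{u}) (x : M.obj.obj (op (Over.mk (𝟙 Y))))
    (hx : M.obj.map (Over.homMk f (comp_id f) : Over.mk f ⟶ Over.mk (𝟙 Y)).op x = 0) :
    (Rs K f).map ((SiteCoh.secEquiv (Over.mk (𝟙 Y)) M).symm x) = 0 := by
  let T : Over Y := Over.mk (𝟙 Y)
  let φ := (SiteCoh.secEquiv T M).symm x
  have hfac : toSheafify (K.over Y) (yoneda.obj T ⋙ AddCommGrpCat.free.{u}) ≫ φ.hom = SiteCoh.ofSection M.obj x :=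
    ((sheafificationAdjunction (K.over Y) AddCommGrpCat.{u}).homEquiv_unit _ _ φ).symm.trans
      (Equiv.apply_symm_apply _ _)
  refine Sheaf.hom_ext ?_
  ext A t
  change φ.hom.app (op ((Over.map f).obj A.unop)) t = 0
  refine (Presieve.IsSheafFor.isSeparatedFor
    ((isSheaf_iff_isSheaf_of_type _ _).1
      ((sheafCompose _ (forget AddCommGrpCat.{u})).obj M).property _
      (Presheaf.imageSieve_mem (K.over Y) (toSheafify (K.over Y) (yoneda.obj T ⋙ AddCommGrpCat.free.{u})) t))).ext
    fun B g hg => ?_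
  obtain ⟨q, hq⟩ := hg
  change M.obj.map g.op (φ.hom.app _ t) = M.obj.map g.op 0
  rw [map_zero, ← NatTrans.naturality_apply, ← hq, ← ConcreteCategory.comp_apply, ← NatTrans.comp_app, hfac]
  change FreeAbelianGroup.lift (fun m => M.obj.map (m : B ⟶ T).op x) q = 0
  have h0 : ∀ m : B ⟶ T, M.obj.map m.op x = 0 := by
    intro m
    let a : B ⟶ Over.mk f := Over.homMk (g.left ≫ A.unop.hom) (by
      change (g.left ≫ A.unop.hom) ≫ f = B.hom
      rw [assoc]
      exact Over.w g)
    rw [show m = a ≫ (Over.homMk f (comp_id f) : Over.mk f ⟶ T) from Over.mkIdTerminal.hom_ext _ _,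
      op_comp, Functor.map_comp, ConcreteCategory.comp_apply, hx, map_zero]
  clear hq
  induction q using FreeAbelianGroup.induction_on with
  | zero => exact map_zero _
  | of m => exact (FreeAbelianGroup.lift_apply_of _ _).trans (h0 m)
  | neg _ hq => rw [map_neg, hq, neg_zero]
  | add _ _ hq hr => rw [map_add, hq, hr, add_zero]

variable {J J' : GrothendieckTopology C} (h : J' ≤ J)

/-- `ε_*` on the slice over `X` -/
noncomputable abbrev EX (X : C) : Sheaf (J.over X) AddCommGrpCat.{u} ⥤ Sheaf (J'.over X) AddCommGrpCat.{u} :=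
  E (SiteCmp.over_le h X)

/-- restriction commutes with `ε_*` -/
noncomputable def restrictE : EX h Y ⋙ Rs J' f ≅ Rs J f ⋙ EX h X :=
  NatIso.ofComponents (fun F => ⟨⟨𝟙 _⟩, ⟨𝟙 _⟩, Sheaf.hom_ext (id_comp _), Sheaf.hom_ext (id_comp _)⟩)
    (fun φ => Sheaf.hom_ext ((comp_id _).trans (id_comp _).symm))

/-- direct image commutes with `ε_*` -/
noncomputable def pushE : EX h X ⋙ Pf J' f ≅ Pf J f ⋙ EX h Y :=
  NatIso.ofComponents (fun F => ⟨⟨𝟙 _⟩, ⟨𝟙 _⟩, Sheaf.hom_ext (id_comp _), Sheaf.hom_ext (id_comp _)⟩)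
    (fun φ => Sheaf.hom_ext ((comp_id _).trans (id_comp _).symm))

end Groth.Agent.CmpSite
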