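import Groth.Agent.CmpSite.Compare
import Groth.Agent.SiteCoh.Derived

/-!
Consequences of the vanishing of the higher comparison images.
-/

set_option autoImplicit false
set_option linter.style.haveILetI false
set_option linter.unusedSectionVars false
set_option backward.isDefEq.respectTransparency false
set_option backward.isDefEq.respectTransparency.types false
set_option maxHeartbeats 2000000

universe u

open CategoryTheory Category Limits Opposite HomologicalComplex Abelian

namespace Groth.Agent.CmpSite

variable {C : Type u} [SmallCategory C] {J J' : GrothendieckTopology C} {h : J' ≤ J} {P : MorphismProperty C}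
  {A' : ∀ X : C, ObjectProperty (Sheaf (J'.over X) AddCommGrpCat.{u})} [∀ X : C, WSerre.IsWeakSerre (A' X)]
  (H : Sit (J := J) P A')

include H

/-- direct images commute with the comparison -/
theorem pushforward_iso {X Y : C} (f : X ⟶ Y) (hf : P f) (F : Sheaf (J.over X) AddCommGrpCat.{u})
    (hF : InA h A' X F) (i : ℕ) :
    Nonempty (((Pf J' f).rightDerived i).obj ((EX h X).obj F) ≅ (EX h Y).obj (((Pf J f).rightDerived i).obj F)) := by
  let R := injectiveResolution F
  let hY := SiteCmp.over_le h Y
  have hK := isRes_of_resolution R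
  have h0 : InA h A' X (R.cocomplex.cycles 0) := inA_of_iso (cyclesResIso R).symm hF
  haveI : ∀ j, Injective (R.cocomplex.X j) := R.injective
  have hinj : ∀ j, Injective ((mapCx (EX h X) R.cocomplex).X j) := fun j =>
    inferInstanceAs (Injective ((EX h X).obj (R.cocomplex.X j)))
  obtain ⟨e⟩ := homology_rightDerived (Pf J' f) (mapCx (EX h X) R.cocomplex) hinj i
    (eps_exact (h := h) (A' := A') i (van H i) hK h0) i le_rfl
  haveI := isIso_unit_A' (h := h) H ((pushed_prop H i (van H i) f hf hK h0).1 i le_rfl)
  exact ⟨((Pf J' f).rightDerived i).mapIso ((EX h X).mapIso (cyclesResIso R).symm ≪≫ (mapCycles (EX h X) R.cocomplex 0).symm) ≪≫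
    e.symm ≪≫ (HomologicalComplex.homologyFunctor _ _ i).mapIso (pushCxIso f R.cocomplex) ≪≫
    asIso ((aAdj hY).unit.app _) ≪≫
    (EX h Y).mapIso (aEIso hY (mapCx (Pf J f) R.cocomplex) i ≪≫ (R.isoRightDerivedObj (Pf J f) i).symm)⟩

/-- the good sheaves for the finer topology form a weak Serre subcategory -/
theorem isWeakSerre_inverseImage (X : C) : WSerre.IsWeakSerre ((A' X).inverseImage (EX h X)) := by
  let hX := SiteCmp.over_le h X
  haveI : PreservesFiniteColimits (aSh (J.over X) (J'.over X)) := preservesFiniteColimits_aSh hX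
  refine { exists_zero := ?_, kernels_le := ?_, cokernels_le := ?_, prop_X₂_of_shortExact := ?_ }
  · obtain ⟨Z, hZ, hPZ⟩ := (A' X).exists_prop_of_containsZero
    exact ⟨_, isZero_zero _, (A' X).prop_of_iso (hZ.iso ((EX h X).map_isZero (isZero_zero _))) hPZ⟩
  · rintro _ ⟨φ, k, hl, hF, hG⟩
    exact (A' X).prop_of_isLimit_kernelFork (KernelFork.mapIsLimit _ hl (EX h X)) hF hG
  · rintro _ ⟨φ, k, hl, hF, hG⟩
    have hq : A' X (cokernel ((EX h X).map φ)) := (A' X).prop_cokernel _ hF hG
    let e : (aSh (J.over X) (J'.over X)).obj (cokernel ((EX h X).map φ)) ≅ cokernel φ :=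
      PreservesCokernel.iso (aSh (J.over X) (J'.over X)) ((EX h X).map φ) ≪≫
        cokernel.mapIso _ φ (asIso ((aAdj hX).counit.app _)) (asIso ((aAdj hX).counit.app _))
          ((aAdj hX).counit.naturality φ)
    exact inA_of_iso (h := h) (A' := A') (e ≪≫ IsColimit.coconePointUniqueUpToIso (colimit.isColimit _) hl)
      (inA_aSh H hq)
  · intro S hS h₁ h₃
    haveI := hS.mono_f
    haveI : Epi ((EX h X).map S.g) :=
      epi_map_of_killed hX hS (killed_of_isZero hX (van H 1 X _ h₁ 1 le_rfl le_rfl))
    have hS' : (S.map (EX h X)).ShortExact :=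
      { exact := ShortComplex.exact_of_f_is_kernel _ (KernelFork.mapIsLimit _ hS.fIsKernel (EX h X))
        mono_f := inferInstanceAs (Mono ((EX h X).map S.f)), epi_g := inferInstanceAs (Epi ((EX h X).map S.g)) }
    exact (A' X).prop_X₂_of_shortExact hS' h₁ h₃

omit H in
/-- cohomology is functorial in the sheaf -/
noncomputable def huIso {D : Type u} [SmallCategory D] {K : GrothendieckTopology D}
    {F G : Sheaf K AddCommGrpCat.{u}} (e : F ≅ G) (n : ℕ) (U : D) : CohSite.HU F n U ≃+ CohSite.HU G n U :=
  (((extFunctor n).obj (op (CohCx.freeSheaf K U))).mapIso e).addCommGroupIsoToAddEquiv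

/-- cohomology in the two topologies agrees on the subcategory -/
theorem cohomology_equiv (h : J' ≤ J) (X : C) (F' : Sheaf (J'.over X) AddCommGrpCat.{u}) (hF' : A' X F') (n : ℕ) (U : Over X) :
    Nonempty (CohSite.HU F' n U ≃+ CohSite.HU ((aSh (J.over X) (J'.over X)).obj F') n U) := by
  let hX := SiteCmp.over_le h X
  let F := (aSh (J.over X) (J'.over X)).obj F'
  haveI := isIso_unit_A' (h := h) H hF'
  have hF : InA h A' X F := inA_aSh H hF'
  let R := injectiveResolution F
  have hK := isRes_of_resolution R
  haveI : ∀ j, Injective (R.cocomplex.X j) := R.injective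
  let K := mapCx (EX h X) R.cocomplex
  have h0 : InA h A' X (R.cocomplex.cycles 0) := inA_of_iso (cyclesResIso R).symm hF
  let η := (aAdj hX).unit.app F'
  have hw : (η ≫ (EX h X).map (R.ι.f 0)) ≫ K.d 0 1 = 0 := by
    change (η ≫ (EX h X).map (R.ι.f 0)) ≫ (EX h X).map (R.cocomplex.d 0 1) = 0
    rw [assoc, ← Functor.map_comp, R.ι_f_zero_comp_complex_d, Functor.map_zero, comp_zero]
  let R' : InjectiveResolution F' :=
    { cocomplex := K
      injective := fun j => inferInstanceAs (Injective ((EX h X).obj (R.cocomplex.X j)))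
      ι := (CochainComplex.fromSingle₀Equiv _ _).symm ⟨η ≫ (EX h X).map (R.ι.f 0), hw⟩
      quasiIso := ⟨fun j => by
        cases j with
        | zero =>
          rw [CochainComplex.quasiIsoAt₀_iff, ShortComplex.quasiIso_iff_of_zeros]
          · let S₀ := ShortComplex.mk ((EX h X).map (R.ι.f 0)) (K.d 0 1) (by
              change (EX h X).map (R.ι.f 0) ≫ (EX h X).map (R.cocomplex.d 0 1) = 0
              rw [← Functor.map_comp, R.ι_f_zero_comp_complex_d, Functor.map_zero])
            refine (ShortComplex.exact_and_mono_f_iff_of_iso (S₂ := S₀) ?_).2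
              ⟨ShortComplex.exact_of_f_is_kernel S₀ (KernelFork.mapIsLimit _ R.isLimitKernelFork (EX h X)),
                inferInstanceAs (Mono ((EX h X).map (R.ι.f 0)))⟩
            exact ShortComplex.isoMk (asIso η) (Iso.refl _) (Iso.refl _) (by simp [S₀]) (by simp [S₀])
          all_goals first | rfl | exact K.shape _ _ (by simp)
        | succ j =>
          rw [quasiIsoAt_iff_exactAt]
          · exact eps_exact (h := h) (A' := A') (j + 1) (van H (j + 1)) hK h0 (j + 1) (by omega) le_rfl
          · exact CochainComplex.exactAt_succ_single_obj _ _⟩ }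
  let e' : (SiteCoh.preCx R').homology n ≅ SiteCoh.hPre F' n := asIso (SiteCoh.homologyToCohomology R' n)
  let e : (SiteCoh.preCx R).homology n ≅ SiteCoh.hPre F n := asIso (SiteCoh.homologyToCohomology R n)
  let c : SiteCoh.preCx R' ≅ SiteCoh.preCx R :=
    HomologicalComplex.Hom.isoOfComponents (fun _ => Iso.refl _) (fun i j _ => (id_comp _).trans (comp_id _).symm)
  exact ⟨((e'.symm ≪≫ (HomologicalComplex.homologyFunctor _ _ n).mapIso c ≪≫ e).app (op U)).addCommGroupIsoToAddEquiv⟩

end Groth.Agent.CmpSite
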