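import Groth.Prelude.Def_SiteCmp
import Groth.Agent.CmpSite.Shift
import Groth.Agent.SiteCoh.DirectImage
import Mathlib.CategoryTheory.Sites.EpiMono
import Mathlib.CategoryTheory.Sites.Abelian

/-!
A finer topology: sheafification is exact and left adjoint to the inclusion; separatedness through
the unit; propagation of vanishing of the higher comparison functors.
-/

set_option autoImplicit false
set_option linter.style.haveILetI false
set_option linter.unusedSectionVars false
set_option backward.isDefEq.respectTransparency false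
set_option backward.isDefEq.respectTransparency.types false
set_option maxHeartbeats 1000000

universe u

open CategoryTheory Category Limits Opposite Abelian

namespace Groth.Agent.CmpSite

variable {C : Type u} [SmallCategory C] {J J' : GrothendieckTopology C} (h : J' ≤ J)

/-- `ε_*` on abelian sheaves -/
noncomputable abbrev E : Sheaf J AddCommGrpCat.{u} ⥤ Sheaf J' AddCommGrpCat.{u} := SiteCmp.epsSh h AddCommGrpCat.{u}

/-- sheafification for the finer topology -/
noncomputable abbrev aSh (J J' : GrothendieckTopology C) : Sheaf J' AddCommGrpCat.{u} ⥤ Sheaf J AddCommGrpCat.{u} :=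
  sheafToPresheaf J' AddCommGrpCat.{u} ⋙ presheafToSheaf J AddCommGrpCat.{u}

/-- it is left adjoint to `ε_*` -/
noncomputable def aAdj : aSh J J' ⊣ E h :=
  Adjunction.mkOfHomEquiv
    { homEquiv := fun G F =>
        { toFun := fun φ => ⟨(sheafificationAdjunction J AddCommGrpCat.{u}).homEquiv G.obj F φ⟩
          invFun := fun ψ => ((sheafificationAdjunction J AddCommGrpCat.{u}).homEquiv G.obj F).symm ψ.hom
          left_inv := fun φ => Equiv.symm_apply_apply _ φ
          right_inv := fun ψ => Sheaf.hom_ext (Equiv.apply_symm_apply _ _) }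
      homEquiv_naturality_left_symm := fun f g =>
        (sheafificationAdjunction J AddCommGrpCat.{u}).homEquiv_naturality_left_symm f.hom g.hom
      homEquiv_naturality_right := fun f g => Sheaf.hom_ext
        ((sheafificationAdjunction J AddCommGrpCat.{u}).homEquiv_naturality_right f g) }

/-- `ε_*` is fully faithful -/
noncomputable def fullyFaithfulE : (E h).FullyFaithful where
  preimage φ := ⟨φ.hom⟩

instance full_E : (E h).Full := (fullyFaithfulE h).full
instance faithful_E : (E h).Faithful := (fullyFaithfulE h).faithful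
instance isRightAdjoint_E : (E h).IsRightAdjoint := (aAdj h).isRightAdjoint
instance preservesFiniteLimits_E : PreservesFiniteLimits (E h) :=
  ⟨fun _ _ _ => (aAdj h).rightAdjoint_preservesLimits.preservesLimitsOfShape⟩
instance additive_E : (E h).Additive := Functor.additive_of_preserves_binary_products _
instance preservesFiniteLimits_aSh : PreservesFiniteLimits (aSh J J') := comp_preservesFiniteLimits _ _
theorem preservesFiniteColimits_aSh (h : J' ≤ J) : PreservesFiniteColimits (aSh J J') :=
  ⟨fun _ _ _ => (aAdj h).leftAdjoint_preservesColimits.preservesColimitsOfShape⟩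
instance additive_aSh : (aSh J J').Additive := inferInstance
instance preservesMono_aSh : (aSh J J').PreservesMonomorphisms := inferInstance

instance isIso_counit : IsIso (aAdj h).counit := Adjunction.counit_isIso_of_R_fully_faithful _

instance injective_E (I : Sheaf J AddCommGrpCat.{u}) [Injective I] : Injective ((E h).obj I) :=
  Injective.injective_of_adjoint (aAdj h) I

/-- a `J'`-sheaf is separated for `J` -/
def Sep (S : Sheaf J' AddCommGrpCat.{u}) : Prop := Mono ((aAdj h).unit.app S)

/-- sheaves are in the image -/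
theorem isIso_unit_E (Y : Sheaf J AddCommGrpCat.{u}) : IsIso ((aAdj h).unit.app ((E h).obj Y)) := by
  have e := (aAdj h).right_triangle_components Y
  refine ⟨(E h).map ((aAdj h).counit.app Y), e, ?_⟩
  haveI : Mono ((E h).map ((aAdj h).counit.app Y)) := inferInstance
  refine (cancel_mono ((E h).map ((aAdj h).counit.app Y))).1 ?_
  rw [assoc]
  exact (congrArg (_ ≫ ·) e).trans ((comp_id _).trans (id_comp _).symm)

theorem isIso_unit_of_isSheaf (G : Sheaf J' AddCommGrpCat.{u}) (hG : Presheaf.IsSheaf J G.obj) :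
    IsIso ((aAdj h).unit.app G) := by
  let e : (E h).obj ⟨G.obj, hG⟩ ≅ G := ⟨⟨𝟙 _⟩, ⟨𝟙 _⟩, Sheaf.hom_ext (id_comp _), Sheaf.hom_ext (id_comp _)⟩
  exact (NatTrans.isIso_app_iff_of_iso (aAdj h).unit e).1 (isIso_unit_E h _)

theorem sep_of_mono {S : Sheaf J' AddCommGrpCat.{u}} {Y : Sheaf J AddCommGrpCat.{u}}
    (m : S ⟶ (E h).obj Y) [Mono m] : Sep h S := by
  have := isIso_unit_E h Y
  have hc : Mono ((aAdj h).unit.app S ≫ (E h).map ((aSh J J').map m)) := by
    rw [show (aAdj h).unit.app S ≫ (E h).map ((aSh J J').map m) = m ≫ (aAdj h).unit.app ((E h).obj Y) from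
      ((aAdj h).unit.naturality m).symm]
    infer_instance
  exact mono_of_mono _ ((E h).map ((aSh J J').map m))

theorem sep_of_isSheaf {S : Sheaf J' AddCommGrpCat.{u}} (hS : Presheaf.IsSheaf J S.obj) : Sep h S := by
  have := isIso_unit_of_isSheaf h S hS
  exact inferInstanceAs (Mono ((aAdj h).unit.app S))

theorem sep_of_mono' {S T : Sheaf J' AddCommGrpCat.{u}} (m : S ⟶ T) [Mono m] (hT : Sep h T) : Sep h S := by
  haveI : Mono ((aAdj h).unit.app T) := hT
  have hc : Mono ((aAdj h).unit.app S ≫ (E h).map ((aSh J J').map m)) := by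
    rw [show (aAdj h).unit.app S ≫ (E h).map ((aSh J J').map m) = m ≫ (aAdj h).unit.app T from
      ((aAdj h).unit.naturality m).symm]
    infer_instance
  exact mono_of_mono _ ((E h).map ((aSh J J').map m))

/-- locally zero objects map trivially to separated ones -/
theorem hom_eq_zero {T S : Sheaf J' AddCommGrpCat.{u}} (hT : IsZero ((aSh J J').obj T)) (hS : Sep h S)
    (φ : T ⟶ S) : φ = 0 := by
  haveI : Mono ((aAdj h).unit.app S) := hS
  rw [← cancel_mono ((aAdj h).unit.app S), zero_comp]
  refine ((aAdj h).unit.naturality φ).trans ?_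
  change _ ≫ (E h).map ((aSh J J').map φ) = _
  rw [hT.eq_of_src ((aSh J J').map φ) 0, Functor.map_zero, comp_zero]

/-- locally bijective maps from sheaves to separated objects -/
theorem isIso_of_local {P S : Sheaf J' AddCommGrpCat.{u}} (hP : IsIso ((aAdj h).unit.app P)) (hS : Sep h S)
    (φ : P ⟶ S) [IsIso ((aSh J J').map φ)] : IsIso φ := by
  haveI : Mono ((aAdj h).unit.app S) := hS
  have e : φ ≫ (aAdj h).unit.app S = (aAdj h).unit.app P ≫ (E h).map ((aSh J J').map φ) :=
    (aAdj h).unit.naturality φ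
  haveI : IsIso (φ ≫ (aAdj h).unit.app S) := by rw [e]; infer_instance
  haveI : Epi ((aAdj h).unit.app S) := epi_of_epi φ _
  haveI : IsIso ((aAdj h).unit.app S) := isIso_of_mono_of_epi _
  exact IsIso.of_isIso_comp_right φ ((aAdj h).unit.app S)

/-- `a ε = id` on complexes -/
noncomputable def aEIso (K : CochainComplex (Sheaf J AddCommGrpCat.{u}) ℕ) (i : ℕ) :
    (aSh J J').obj ((mapCx (E h) K).homology i) ≅ K.homology i :=
  haveI := preservesFiniteColimits_aSh h
  (((mapCx (E h) K).sc i).mapHomologyIso (aSh J J')).symm ≪≫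
    (HomologicalComplex.homologyFunctor _ _ i).mapIso
      ((NatIso.mapHomologicalComplex (asIso (aAdj h).counit) (ComplexShape.up ℕ)).app K)

/-! ### Vanishing, elementwise -/

/-- positive degree classes die locally for the coarser topology -/
def Killed {J J' : GrothendieckTopology C} (h : J' ≤ J) (X : Sheaf J AddCommGrpCat.{u}) (p : ℕ) : Prop :=
  haveI := SiteCmp.idContinuous h
  SiteCoh.LocKilled J' (𝟭 C) X p

theorem killed_of_isZero {X : Sheaf J AddCommGrpCat.{u}} {p : ℕ} (hz : IsZero (((E h).rightDerived p).obj X)) :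
    Killed h X p :=
  haveI := SiteCmp.idContinuous h
  SiteCoh.locKilled_of_isZero (𝟭 C) hz

theorem killed_of_mono {X Y : Sheaf J AddCommGrpCat.{u}} (e : X ≅ Y) {p : ℕ} (hX : Killed h X p) : Killed h Y p := by
  haveI := SiteCmp.idContinuous h
  intro V ξ
  obtain ⟨S, hS, hk⟩ := hX V (ξ.comp (Ext.mk₀ e.inv) (add_zero p))
  refine ⟨S, hS, fun W g hg => ?_⟩
  have := congrArg (fun z => z.comp (Ext.mk₀ e.hom) (add_zero p)) (hk g hg)
  simpa [Ext.comp_assoc, Ext.mk₀_comp_mk₀] using this

theorem epi_map_of_killed {S : ShortComplex (Sheaf J AddCommGrpCat.{u})} (hS : S.ShortExact)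
    (hk : Killed h S.X₁ 1) : Epi ((E h).map S.g) :=
  haveI := SiteCmp.idContinuous h
  SiteCoh.push_epi_of_locKilled (𝟭 C) hS hk

theorem killed_quotient {S : ShortComplex (Sheaf J AddCommGrpCat.{u})} (hS : S.ShortExact) [Injective S.X₂]
    {p : ℕ} (hk : Killed h S.X₁ (p + 2)) : Killed h S.X₃ (p + 1) := by
  haveI := SiteCmp.idContinuous h
  intro V η
  obtain ⟨T, hT, hk⟩ := hk V (η.comp hS.extClass rfl)
  refine ⟨T, hT, fun W g hg => ?_⟩
  haveI : Subsingleton (Ext (CohCx.freeSheaf J ((𝟭 C).obj W)) S.X₂ (p + 1)) :=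
    SiteCoh.subsingleton_ext_injective _ _ p
  haveI : Subsingleton (Ext (CohCx.freeSheaf J ((𝟭 C).obj W)) S.X₂ (p + 1 + 1)) :=
    SiteCoh.subsingleton_ext_injective _ _ (p + 1)
  apply (SiteCoh.shiftEquiv hS (CohCx.freeSheaf J ((𝟭 C).obj W)) (p + 1)).injective
  rw [map_zero]
  refine Eq.trans ?_ (hk g hg)
  exact Ext.comp_assoc _ _ _ (zero_add (p + 1)) rfl (by omega)

theorem killed_extension {S : ShortComplex (Sheaf J AddCommGrpCat.{u})} (hS : S.ShortExact)
    {p : ℕ} (h₁ : Killed h S.X₁ p) (h₃ : Killed h S.X₃ p) : Killed h S.X₂ p := by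
  haveI := SiteCmp.idContinuous h
  intro V ξ
  obtain ⟨T, hT, hk⟩ := h₃ V (ξ.comp (Ext.mk₀ S.g) (add_zero p))
  let R : Sieve V :=
    { arrows := fun W g => (Ext.mk₀ (CohCx.freeSheafMap J g)).comp ξ (zero_add p) = 0
      downward_closed := fun {W W' g} hg a => by
        change (Ext.mk₀ (CohCx.freeSheafMap J (a ≫ g))).comp ξ (zero_add p) = 0
        have e : CohCx.freeSheafMap J (a ≫ g) = CohCx.freeSheafMap J a ≫ CohCx.freeSheafMap J g := by
          simp [CohCx.freeSheafMap]
        rw [e, ← Ext.mk₀_comp_mk₀, Ext.comp_assoc _ _ _ (zero_add 0) (zero_add p) (by omega), hg, Ext.comp_zero] }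
  refine ⟨R, J'.transitive hT _ fun W g hg => ?_, fun W g hg => hg⟩
  have h0 : ((Ext.mk₀ (CohCx.freeSheafMap J g)).comp ξ (zero_add p)).comp (Ext.mk₀ S.g) (add_zero p) = 0 := by
    rw [Ext.comp_assoc _ _ _ (zero_add p) (add_zero p) (by omega)]
    exact hk g hg
  obtain ⟨y, hy⟩ := Ext.covariant_sequence_exact₂ _ hS _ h0
  obtain ⟨T', hT', hk'⟩ := h₁ W y
  refine J'.superset_covering (fun W' a ha => ?_) hT'
  change (Ext.mk₀ (CohCx.freeSheafMap J (a ≫ g))).comp ξ (zero_add p) = 0
  have e : CohCx.freeSheafMap J (a ≫ g) = CohCx.freeSheafMap J a ≫ CohCx.freeSheafMap J g := by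
    simp [CohCx.freeSheafMap]
  rw [e, ← Ext.mk₀_comp_mk₀, Ext.comp_assoc _ _ _ (zero_add 0) (zero_add p) (by omega), ← hy,
    ← Ext.comp_assoc _ _ _ (zero_add p) (add_zero p) (by omega)]
  rw [show (Ext.mk₀ (CohCx.freeSheafMap J a)).comp y (zero_add p) = 0 from hk' a ha, Ext.zero_comp]

/-- the comparison in degree `n` is injective -/
theorem mono_cmp_E (K : CochainComplex (Sheaf J AddCommGrpCat.{u}) ℕ) (hK : ∀ i, Injective (K.X i)) (n : ℕ)
    (hH : ∀ j, j < n → ∀ p, p + 1 + j ≤ n → Killed h (K.homology j) (p + 1)) :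
    Mono (cmp (E h) K n) := by
  cases n with
  | zero => infer_instance
  | succ j =>
    have key : ∀ i, i < j + 1 → ∀ p, p + 1 + i ≤ j + 1 → Killed h (K.cycles i) (p + 1) := by
      intro i
      induction i with
      | zero =>
        intro hi p hp
        haveI := K.isIso_homologyπ _ 0 rfl (K.shape _ _ (by simp))
        exact killed_of_mono h (asIso (K.homologyπ 0)).symm (hH 0 hi p hp)
      | succ i ih =>
        intro hi p hp
        haveI := hK i
        exact killed_extension h (homologySeq_shortExact K i)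
          (killed_quotient h (cyclesSeq_shortExact K i) (ih (by omega) (p + 1) (by omega)))
          (hH (i + 1) hi p hp)
    haveI : Epi ((E h).map (toBd K j)) :=
      epi_map_of_killed h (cyclesSeq_shortExact K j) (key j (by omega) 0 (by omega))
    exact mono_cmp (E h) K j

end Groth.Agent.CmpSite
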